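import Cfsg.Agent.Mrg.Omega.KL.FlagNO
import Cfsg.Agent.Mrg.Omega.KL.StarM.Pre
import Cfsg.Agent.Mrg.Omega.EDel.ThmU
import Cfsg.Agent.Mrg.Omega.EDel.QP
import Cfsg.Agent.Mrg.Omega.EK3.FrStar
import Cfsg.Agent.Mrg.Omega.NOThreeL.RWide.Typ
import Cfsg.Agent.Mrg.Omega.SQ1.Choice
import Cfsg.Agent.Mrg.Omega.NOne.LemmaT

-- merged: Cfsg.Agent.Mrg.Omega.NOThreeL.RWide.TypT
section

/-!
# NO-3L, box R: at least three types over an arbitrary 2-subgroup `T` (#25339)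

`T` any 2-subgroup (the kernel of `S` on the index set), `F i = C_(R_i)(T)`, `Ω₁(Z(T)) = ∏ F i`, `V i` the `i`-th line
module, `Y_j = C_G(F_l : l ≠ j)`; no `q`, fields allowed.

* `TypT T F V` : the situation: `T` is Sylow in the `Y_j`, `O₂(C_G(F_l : l ≠ i, j)) ≤ T`, `N_(Y_j)(T)` normalises `F_j`
  and all the `V_i`, every `T`-minimal `P ≤ Y_j` centralises `F_j` or normalises all the `V_i`, `⟨Y_j : j⟩` is nonlocal;
* `TypT.of` : `TypT` from the action of `N_G(T)` on the index set.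
-/

set_option autoImplicit false
set_option linter.unusedSectionVars false

namespace Cfsg.Agent.Omega.NOThreeL.RWide

open Subgroup Cfsg Cfsg.Agent.ZN Cfsg.Agent.Omega.MinPar Cfsg.Agent.Omega.Frame Cfsg.Agent.Omega.FrameNOFF
open Cfsg.Agent.ZN.ChoiceBase (cj cj_mono cj_inf cj_centralizer cj_eq_of_mem_normalizer mem_cj mem_normalizer_iff_cj
  cj_cj_inv cj_inv_cj)
open Cfsg.Agent.MinSimple.MinParabolic (IsMinPar)
open Cfsg.Agent.Omega.EDel.ThmU (XF XF_le sylow_of_two)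

universe u v

/-- **At least three types over `T`.** -/
structure TypT {G : Type u} [Group G] {ι : Type v} (T : Subgroup G) (F V : ι → Subgroup G) : Prop where
  two : IsPGroup 2 T
  three : ∀ i j : ι, ∃ l, l ≠ i ∧ l ≠ j
  ne : ∀ i, F i ≠ ⊥
  le : ∀ i, F i ≤ zc T
  sup : zc T ≤ ⨆ i, F i
  FV : ∀ i, F i ≤ V i
  VX : ∀ i, V i ≤ XS (F i) (YY F i)
  cV : ∀ i, V i ⊓ zc T ≤ F i
  dis : ∀ i j, i ≠ j → V i ⊓ V j = ⊥
  syl : ∀ j, ¬ 2 ∣ T.relIndex (YY F j)
  oT : ∀ i j, i ≠ j → o2 (XF F i j) ≤ T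
  nrm : ∀ j, ∀ n ∈ normalizer (T : Set G), n ∈ YY F j →
    n ∈ normalizer (F j : Set G) ∧ ∀ i, n ∈ normalizer (V i : Set G)
  /-- the `T`-minimal `P` in `Y_j` centralise `F_j` or normalise all the `V_i` -/
  par : ∀ j P, IsMinPar T P → P ≤ YY F j → P ≤ centralizer (F j : Set G) ∨ ∀ i, P ≤ normalizer (V i : Set G)
  non : ∀ U : Subgroup G, IsPGroup 2 U → (∀ j, YY F j ≤ normalizer (U : Set G)) → U = ⊥

/-- **`TypT` from the action of `N_G(T)` on the index set.** -/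
theorem TypT.of {G : Type u} [Group G] [Finite G] {ι : Type v} {T : Subgroup G} {F V : ι → Subgroup G}
    (two : IsPGroup 2 T) (three : ∀ i j : ι, ∃ l, l ≠ i ∧ l ≠ j) (ne : ∀ i, F i ≠ ⊥) (le : ∀ i, F i ≤ zc T)
    (sup : zc T ≤ ⨆ i, F i) (FV : ∀ i, F i ≤ V i) (VX : ∀ i, V i ≤ XS (F i) (YY F i)) (cV : ∀ i, V i ⊓ zc T ≤ F i)
    (dis : ∀ i j, i ≠ j → V i ⊓ V j = ⊥) (oT : ∀ i j, i ≠ j → o2 (XF F i j) ≤ T)
    (NT : ∀ n ∈ normalizer (T : Set G), ∃ σ : Equiv.Perm ι, ∀ i, cj n (F i) = F (σ i) ∧ cj n (V i) = V (σ i))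
    (ker : ∀ n ∈ normalizer (T : Set G), (∃ k : ℕ, n ^ 2 ^ k = 1) → (∀ i, cj n (F i) = F i) → n ∈ T)
    (par : ∀ j P, IsMinPar T P → P ≤ YY F j → P ≤ centralizer (F j : Set G) ∨ ∀ i, P ≤ normalizer (V i : Set G))
    (non : ∀ U : Subgroup G, IsPGroup 2 U → (∀ j, YY F j ≤ normalizer (U : Set G)) → U = ⊥) : TypT T F V := by
  have inj : ∀ i j, F i = F j → i = j := by
    intro i j h
    by_contra hij
    apply ne i
    rw [eq_bot_iff, ← dis i j hij]
    exact le_inf (FV i) (h.le.trans (FV j))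
  have key : ∀ j, ∀ n ∈ normalizer (T : Set G), n ∈ YY F j → ∀ i, cj n (F i) = F i ∧ cj n (V i) = V i := by
    intro j n hn hj
    obtain ⟨σ, hσ⟩ := NT n hn
    have h1 : ∀ l, l ≠ j → σ l = l := by
      intro l hl
      apply inj
      rw [← (hσ l).1]
      exact cj_eq_of_mem_normalizer (centralizer_le_normalizer _ (YY_le_cent hl hj))
    have h2 : σ j = j := by
      by_contra hne
      exact hne (σ.injective (h1 _ hne))
    intro i
    have h3 : σ i = i := by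
      by_cases hi : i = j
      · rw [hi]; exact h2
      · exact h1 i hi
    have h4 := hσ i
    rw [h3] at h4
    exact h4
  have hTc : ∀ i, T ≤ centralizer (F i : Set G) := fun i => by
    intro t ht
    rw [mem_centralizer_iff]
    intro x hx
    exact ((MinSimple.VModule.mem_zc.1 (le i hx)).2.1 t ht).symm
  refine ⟨two, three, ne, le, sup, FV, VX, cV, dis, fun j => ?_, oT, fun j n hn hj => ?_, par, non⟩
  · exact sylow_of_two two (le_YY fun l _ => hTc l) fun g hg h2 => ker g hg.2 h2 fun i => (key j g hg.2 hg.1 i).1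
  · exact ⟨mem_normalizer_iff_cj.2 (key j n hn hj j).1, fun i => mem_normalizer_iff_cj.2 (key j n hn hj i).2⟩

end Cfsg.Agent.Omega.NOThreeL.RWide

end

-- merged: Cfsg.Agent.Mrg.Omega.EDel.UQ.TFrame
section

section


/-!
# THEOREM U(q), the `T`-frame (helper848 #24915 (B)): (B1), (B2), (B3)

`T` a 2-group (the kernel of `S` on the lines), `Ω₁Z(T) = ⟨F i⟩`, `D = C_G(Ω₁Z(T))`, `O = O₂(D)`, `P i` a `T`-minimal group
which centralises the `F l`, `l ≠ i`; `Y i = ⟨D, P i⟩`, `N i = ⟨F i^(Y i)⟩`.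

* `TF` : the frame;  `XK F K = C_G(F n : n ∉ K)`;
* `TF.syl_XK`, `TF.syl_Y`, `TF.syl_D` : `T` is Sylow in `D`, `Y i`, `C_G(F n : n ≠ i)`;
* `TF.eab` : (B1), `⟨Ω₁Z(T)^⟨Y i : i ∈ K⟩⟩` is elementary abelian in `O₂(X_K)`, if `O₂(X_K) ≤ T`;
  `o2X_of_wc`, `o2X_of_mv` : two criteria for `O₂(X_K) ≤ T`;
* `TF.no` : (B2), (NO) for flags (helper863);
* `TF.gen` : (B3), `Y i = K D` (helper557's G'', helper164);
* `TF.toFr` : the frame of THEOREM U; **`TF.main`** : (1), (2).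
-/

set_option autoImplicit false
set_option linter.unusedSectionVars false

namespace Cfsg.Agent.Omega.EDel.UQ

open Subgroup Cfsg Cfsg.Agent.ZN.ChoiceBase
open Cfsg.Agent.ZN (zc zl o2)
open Cfsg.Agent.ZN.ChoiceSit (Syl)
open Cfsg.Agent.Omega.NO3S.EThree.ExactA (eab_mono eab_sup eab_iff)
open Cfsg.Agent.Omega.EK3.Rank (NoOn)
open Cfsg.Agent.Omega.ESym.CoreS (EI EI_mono EI_norm Sy)
open Cfsg.Agent.Omega.EDel.ThmU (Fr XF sylow_of_two)
open Cfsg.Agent.Omega.NoFF.Basic (V V_le Z_le_V mem_conj comm_symm comm_mono)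
open Cfsg.Agent.MinSimple.MinParabolic (IsMinPar)
open Cfsg.Agent.MinSimple.VModule (zc_le normalizer_le_normalizer_zc le_normalizer_o2 o2_isPGroup le_o2 o2_le
  le_centralizer_zc o2_le_of_sylow)
open scoped Pointwise

universe u

variable {G : Type u} [Group G]

/-- a 2-subgroup of odd index is a Sylow group -/
theorem syl_of_not_dvd [Finite G] {T X : Subgroup G} (hT : IsPGroup 2 T) (hTX : T ≤ X)
    (h : ¬ 2 ∣ T.relIndex X) : Syl T X := by
  have : Fact (Nat.Prime 2) := ⟨Nat.prime_two⟩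
  refine ⟨hTX, hT, fun Q hQX hQ hTQ => ?_⟩
  have h1 := relIndex_mul_relIndex T Q X hTQ hQX
  have h2 : T.relIndex Q ∣ Nat.card Q := relIndex_dvd_card T Q
  obtain ⟨n, hn⟩ := IsPGroup.iff_card.1 hQ
  rw [hn] at h2
  obtain ⟨m, -, hm⟩ := (Nat.dvd_prime_pow Nat.prime_two).1 h2
  have h3 : m = 0 := by
    by_contra hm0
    apply h
    rw [← h1, hm]
    exact dvd_mul_of_dvd_left (dvd_pow_self 2 hm0) _
  rw [h3, pow_zero] at hm
  exact le_antisymm (relIndex_eq_one.1 hm) hTQ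

/-- `C_G(F n : n ∉ K)` -/
def XK {ι : Type*} (F : ι → Subgroup G) (K : Set ι) : Subgroup G := centralizer {x | ∃ n, n ∉ K ∧ x ∈ F n}

theorem XK_cent {ι : Type*} (F : ι → Subgroup G) {K : Set ι} {n : ι} (hn : n ∉ K) :
    XK F K ≤ centralizer (F n : Set G) := centralizer_le fun _ hx => ⟨n, hn, hx⟩

theorem le_XK {ι : Type*} {F : ι → Subgroup G} {K : Set ι} {H : Subgroup G}
    (h : ∀ n, n ∉ K → H ≤ centralizer (F n : Set G)) : H ≤ XK F K := by
  intro x hx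
  rw [XK, mem_centralizer_iff]
  rintro y ⟨n, hn, hy⟩
  exact mem_centralizer_iff.1 (h n hn hx) y hy

theorem XK_mono {ι : Type*} (F : ι → Subgroup G) {K K' : Set ι} (h : K ⊆ K') : XK F K ≤ XK F K' :=
  le_XK fun _ hn => XK_cent F fun e => hn (h e)

section crit

variable [Finite G] {T : Subgroup G} {ι : Type*} {F : ι → Subgroup G} {K : Set ι}

/-- **criterion 1 for `O₂(X_K) ≤ T`**: a 2-element of `N_G(T)` which moves the line `F i` does not normalise the class of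
2-groups: `[t, ρ]` is not a 2-element for some `ρ` which centralises the other lines. -/
theorem o2X_of_mv (two : IsPGroup 2 T) (hTX : T ≤ XK F K)
    (ker : ∀ g ∈ normalizer (T : Set G), (∃ k : ℕ, g ^ 2 ^ k = 1) → (∀ i, cj g (F i) = F i) → g ∈ T)
    (mv : ∀ g ∈ normalizer (T : Set G), (∃ k : ℕ, g ^ 2 ^ k = 1) → ∀ i, cj g (F i) ≠ F i →
      ∃ ρ ∈ XK F {i}, ¬ ∃ k : ℕ, (g * (ρ * g⁻¹ * ρ⁻¹)) ^ 2 ^ k = 1) : o2 (XK F K) ≤ T := by
  have : Fact (Nat.Prime 2) := ⟨Nat.prime_two⟩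
  have hn : T ≤ normalizer (o2 (XK F K) : Set G) := hTX.trans (le_normalizer_o2 _)
  have h2 : IsPGroup 2 (T ⊔ o2 (XK F K) : Subgroup G) := IsPGroup.to_sup_of_normal_right' two (o2_isPGroup _) hn
  have key : ∀ q ∈ o2 (XK F K), q ∈ normalizer (T : Set G) → q ∈ T := by
    intro q hq hqT
    have hpow : ∀ x ∈ o2 (XK F K), ∃ k : ℕ, x ^ 2 ^ k = 1 := fun x hx => by
      obtain ⟨k, hk⟩ := o2_isPGroup (XK F K) ⟨x, hx⟩
      exact ⟨k, by simpa using congrArg Subtype.val hk⟩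
    refine ker q hqT (hpow q hq) fun i => ?_
    by_contra hne
    have hqX : q ∈ XK F K := o2_le _ hq
    have hi : i ∈ K := by
      by_contra hi
      exact hne (cj_eq_of_mem_normalizer (centralizer_le_normalizer _ (XK_cent F hi hqX)))
    obtain ⟨ρ, hρ, h3⟩ := mv q hqT (hpow q hq) i hne
    have hρX : ρ ∈ XK F K := XK_mono F (Set.singleton_subset_iff.2 hi) hρ
    exact h3 (hpow _ (mul_mem hq ((mem_normalizer_iff.1 (le_normalizer_o2 _ hρX) _).1 (inv_mem hq))))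
  have hs : ¬ 2 ∣ T.relIndex (T ⊔ o2 (XK F K)) := by
    refine sylow_of_two two le_sup_left ?_
    rintro g ⟨hg, hgT⟩ -
    have hg' : g ∈ ((T ⊔ o2 (XK F K) : Subgroup G) : Set G) := hg
    rw [coe_mul_of_left_le_normalizer_right T _ hn] at hg'
    obtain ⟨t, ht, q, hq, rfl⟩ := Set.mem_mul.1 hg'
    refine mul_mem ht (key q hq ?_)
    have h3 := mul_mem (inv_mem (le_normalizer ht)) hgT
    rwa [inv_mul_cancel_left] at h3
  have h4 := (syl_of_not_dvd two le_sup_left hs).2.2 _ le_rfl h2 le_sup_left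
  exact le_sup_right.trans h4.le

/-- **criterion 2 for `O₂(X_K) ≤ T`**: `T` is weakly closed in the 2-groups over it. -/
theorem o2X_of_wc (two : IsPGroup 2 T) (hTX : T ≤ XK F K) (hF : ∀ i, F i ≤ zc T)
    (ker : ∀ g ∈ normalizer (T : Set G), (∃ k : ℕ, g ^ 2 ^ k = 1) → (∀ i, cj g (F i) = F i) → g ∈ T)
    (wc : ∀ Q : Subgroup G, IsPGroup 2 Q → T ≤ Q → Q ≤ normalizer (T : Set G))
    (perm : ∀ g ∈ normalizer (T : Set G), ∀ i, ∃ j, cj g (F i) = F j)
    (rho : ∀ i, ∃ ρ ∈ XK F {i}, ∃ x ∈ F i, ρ * x * ρ⁻¹ ∉ zc T) : o2 (XK F K) ≤ T := by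
  have hn : T ≤ normalizer (o2 (XK F K) : Set G) := hTX.trans (le_normalizer_o2 _)
  have h2 : IsPGroup 2 (T ⊔ o2 (XK F K) : Subgroup G) := IsPGroup.to_sup_of_normal_right' two (o2_isPGroup _) hn
  have hQ : o2 (XK F K) ≤ normalizer (T : Set G) := le_sup_right.trans (wc _ h2 le_sup_left)
  intro t ht
  have hpow : ∃ k : ℕ, t ^ 2 ^ k = 1 := by
    obtain ⟨k, hk⟩ := o2_isPGroup (XK F K) ⟨t, ht⟩
    exact ⟨k, by simpa using congrArg Subtype.val hk⟩
  refine ker t (hQ ht) hpow fun i => ?_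
  by_contra hne
  have htX : t ∈ XK F K := o2_le _ ht
  have hi : i ∈ K := by
    by_contra hi
    exact hne (cj_eq_of_mem_normalizer (centralizer_le_normalizer _ (XK_cent F hi htX)))
  obtain ⟨m, hm⟩ := perm t⁻¹ (inv_mem (hQ ht)) i
  have hmi : m ≠ i := by
    rintro rfl
    apply hne
    have h3 := congrArg (cj t) hm
    rw [cj_cj, mul_inv_cancel, cj_one] at h3
    exact h3.symm
  obtain ⟨ρ, hρ, x, hx, hρx⟩ := rho i
  have hρX : ρ ∈ XK F K := XK_mono F (Set.singleton_subset_iff.2 hi) hρ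
  have hg : t * (ρ * t⁻¹ * ρ⁻¹) ∈ o2 (XK F K) :=
    mul_mem ht ((mem_normalizer_iff.1 (le_normalizer_o2 _ hρX) _).1 (inv_mem ht))
  have hxm : t⁻¹ * x * t ∈ F m := by
    rw [← hm, mem_cj]
    simpa [mul_assoc] using hx
  have hρm : ρ * (t⁻¹ * x * t) = t⁻¹ * x * t * ρ :=
    (mem_centralizer_iff.1 (XK_cent F (by simpa using hmi) hρ) _ hxm).symm
  apply hρx
  refine (mem_normalizer_iff.1 (normalizer_le_normalizer_zc T (hQ hg)) _).2 ?_
  have e : t * (ρ * t⁻¹ * ρ⁻¹) * (ρ * x * ρ⁻¹) * (t * (ρ * t⁻¹ * ρ⁻¹))⁻¹ = x := by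
    calc t * (ρ * t⁻¹ * ρ⁻¹) * (ρ * x * ρ⁻¹) * (t * (ρ * t⁻¹ * ρ⁻¹))⁻¹
        = t * (ρ * (t⁻¹ * x * t) * ρ⁻¹) * t⁻¹ := by group
      _ = t * (t⁻¹ * x * t) * t⁻¹ := by rw [hρm, mul_inv_cancel_right]
      _ = x := by group
  rw [e]
  exact hF i hx

end crit

theorem XF_eq {ι : Type*} (F : ι → Subgroup G) (l m : ι) : XF F l m = XK F {l, m} := by
  unfold XF XK
  congr 1
  ext x
  constructor
  · rintro ⟨n, h1, h2, h3⟩
    exact ⟨n, by simp [h1, h2], h3⟩
  · rintro ⟨n, h1, h3⟩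
    simp only [Set.mem_insert_iff, Set.mem_singleton_iff, not_or] at h1
    exact ⟨n, h1.1, h1.2, h3⟩

/-- `C_G(Ω₁Z(T))` -/
abbrev DT [Finite G] (T : Subgroup G) : Subgroup G := centralizer (zc T : Set G)

/-- `Y i = ⟨D, P i⟩` -/
abbrev YT [Finite G] {ι : Type} (T : Subgroup G) (P : ι → Subgroup G) (i : ι) : Subgroup G := DT T ⊔ P i

/-- `N i = ⟨F i^(Y i)⟩` -/
abbrev NT [Finite G] {ι : Type} (T : Subgroup G) (F P : ι → Subgroup G) (i : ι) : Subgroup G := V (F i) (YT T P i)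

/-- **The `T`-frame of THEOREM U(q).** -/
structure TF [Finite G] (T : Subgroup G) {ι : Type} (F P : ι → Subgroup G) : Prop where
  c2 : IsCharacteristicTwoType G
  two : IsPGroup 2 T
  zcT : zc T = ⨆ i, F i
  ne : ∀ i, F i ≠ ⊥
  inj : Function.Injective F
  three : ∀ i j : ι, ∃ l, l ≠ i ∧ l ≠ j
  par : ∀ i, IsMinPar T (P i)
  cent : ∀ i l, l ≠ i → P i ≤ centralizer (F l : Set G)
  /-- `N_G(T)` permutes the lines and the groups `Y i` -/
  perm : ∀ g ∈ normalizer (T : Set G), ∃ σ : Equiv.Perm ι, ∀ i, cj g (F i) = F (σ i) ∧ cj g (YT T P i) = YT T P (σ i)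
  ker : ∀ g ∈ normalizer (T : Set G), (∃ k : ℕ, g ^ 2 ^ k = 1) → (∀ i, cj g (F i) = F i) → g ∈ T
  /-- see `o2X_of_wc`, `o2X_of_mv` -/
  o2X : ∀ K : Set ι, K ≠ Set.univ → o2 (XK F K) ≤ T

namespace TF

variable [Finite G] {T : Subgroup G} {ι : Type} {F P : ι → Subgroup G} (h : TF T F P)
include h

theorem F_le (i : ι) : F i ≤ zc T := by rw [h.zcT]; exact le_iSup F i

theorem TD : T ≤ DT T := le_centralizer_zc T

theorem TF' (i : ι) : T ≤ centralizer (F i : Set G) := h.TD.trans (centralizer_le (h.F_le i))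

theorem DF (i : ι) : DT T ≤ centralizer (F i : Set G) := centralizer_le (h.F_le i)

theorem mem_D {H : Subgroup G} (hH : ∀ i, H ≤ centralizer (F i : Set G)) : H ≤ DT T := by
  rw [DT, h.zcT]
  exact comm_symm (iSup_le fun i => comm_symm (hH i))

theorem D_le_XK (K : Set ι) : DT T ≤ XK F K := le_XK fun _ _ => h.DF _

theorem T_le_XK (K : Set ι) : T ≤ XK F K := h.TD.trans (h.D_le_XK K)

theorem Y_cent {i l : ι} (hl : l ≠ i) : YT T P i ≤ centralizer (F l : Set G) := sup_le (h.DF l) (h.cent i l hl)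

theorem Y_le_XK {K : Set ι} {i : ι} (hi : i ∈ K) : YT T P i ≤ XK F K :=
  le_XK fun _ hn => h.Y_cent fun e => hn (e ▸ hi)

theorem stab (i : ι) : YT T P i ⊓ centralizer (F i : Set G) = DT T := by
  refine le_antisymm (h.mem_D fun l => ?_) (le_inf le_sup_left (h.DF i))
  by_cases hl : l = i
  · rw [hl]; exact inf_le_right
  · exact inf_le_left.trans (h.Y_cent hl)

/-- an element of `N_G(T)` which centralises all `F n`, `n ≠ i`, fixes all lines -/
theorem fix_of {i : ι} {g : G} (hg : g ∈ XK F {i}) (hgT : g ∈ normalizer (T : Set G)) (j : ι) :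
    cj g (F j) = F j := by
  obtain ⟨σ, hσ⟩ := h.perm g hgT
  have h1 : ∀ n, n ≠ i → σ n = n := by
    intro n hn
    apply h.inj
    rw [← (hσ n).1]
    exact cj_eq_of_mem_normalizer (centralizer_le_normalizer _ (XK_cent F (by simpa using hn) hg))
  have h2 : σ i = i := by
    by_contra hne
    exact hne (σ.injective (h1 _ hne))
  by_cases hj : j = i
  · rw [hj, (hσ i).1, h2]
  · rw [(hσ j).1, h1 j hj]

theorem syl_XK (i : ι) : ¬ 2 ∣ T.relIndex (XK F {i}) :=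
  sylow_of_two h.two (h.T_le_XK _) fun g hg h2 => h.ker g hg.2 h2 (h.fix_of hg.1 hg.2)

theorem syl_sub {i : ι} {R : Subgroup G} (hT : T ≤ R) (hR : R ≤ XK F {i}) : ¬ 2 ∣ T.relIndex R := fun h1 => by
  apply h.syl_XK i
  rw [← relIndex_mul_relIndex T R (XK F {i}) hT hR]
  exact h1.mul_right _

theorem syl_Y (i : ι) : ¬ 2 ∣ T.relIndex (YT T P i) := h.syl_sub (h.TD.trans le_sup_left) (h.Y_le_XK rfl)

theorem ne_univ (i : ι) : ({i} : Set ι) ≠ Set.univ := by
  obtain ⟨l, hl, -⟩ := h.three i i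
  intro e
  have h1 : l ∈ ({i} : Set ι) := e ▸ Set.mem_univ l
  exact hl h1

theorem syl_D (i : ι) : ¬ 2 ∣ T.relIndex (DT T) := h.syl_sub (i := i) h.TD (h.D_le_XK _)

theorem Syl_D (i : ι) : Syl T (DT T) := syl_of_not_dvd h.two h.TD (h.syl_D i)

/-! ### `O₂(X_K)` -/

variable {K : Set ι} (hK : K ≠ Set.univ)
include hK

theorem char2_XK : XK F K ⊓ centralizer (o2 (XK F K) : Set G) ≤ o2 (XK F K) := by
  have e : XK F K = centralizer ((closure {x | ∃ n, n ∉ K ∧ x ∈ F n} : Subgroup G) : Set G) :=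
    (centralizer_closure _).symm
  have hle : closure {x | ∃ n, n ∉ K ∧ x ∈ F n} ≤ zc T := by
    rw [closure_le]
    rintro x ⟨n, -, hx⟩
    exact h.F_le n hx
  rw [e]
  refine NOne.LemmaT.char2_centralizer h.c2 (h.two.to_le (hle.trans (zc_le T))) ?_
  obtain ⟨n, hn⟩ := (Set.ne_univ_iff_exists_notMem K).1 hK
  intro e1
  apply h.ne n
  rw [eq_bot_iff, ← e1]
  exact fun x hx => subset_closure ⟨n, hn, hx⟩

theorem o2X_le_D : o2 (XK F K) ≤ DT T := (h.o2X K hK).trans h.TD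

/-- `O₂(X_K) ≤ O₂(R)` for `D ≤ R ≤ X_K` -/
theorem o2X_le_of_le {R : Subgroup G} (h1 : DT T ≤ R) (h2 : R ≤ XK F K) : o2 (XK F K) ≤ o2 R :=
  le_o2 ((h.o2X_le_D hK).trans h1) (o2_isPGroup _) (h2.trans (le_normalizer_o2 _))

theorem Z_le_zc : zc T ≤ zc (o2 (XK F K)) := by
  have h1 : zc T ≤ centralizer (o2 (XK F K) : Set G) := comm_symm (h.o2X_le_D hK)
  intro x hx
  have h2 : x ∈ XK F K := h.T_le_XK K (zc_le T hx)
  exact mem_zc.2 ⟨h.char2_XK hK ⟨h2, h1 hx⟩, (mem_zc.1 hx).2.1, fun y hy => mem_centralizer_iff.1 (h1 hx) y hy⟩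

theorem E_le_zc : EI (zc T) (YT T P) K ≤ zc (o2 (XK F K)) := by
  have hXn : XK F K ≤ normalizer (zc (o2 (XK F K)) : Set G) :=
    (le_normalizer_o2 _).trans (normalizer_le_normalizer_zc _)
  refine iSup_le fun y => ?_
  have hy : (y : G) ∈ XK F K := (iSup_le fun i : K => h.Y_le_XK i.2 : (⨆ i : K, YT T P i) ≤ XK F K) y.2
  have h1 := cj_mono (y : G) (h.Z_le_zc hK)
  rwa [cj_eq_of_mem_normalizer (hXn hy)] at h1

theorem E_le_o2X : EI (zc T) (YT T P) K ≤ o2 (XK F K) := (h.E_le_zc hK).trans (zc_le _)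

theorem E_le_o2 {R : Subgroup G} (h1 : DT T ≤ R) (h2 : R ≤ XK F K) : EI (zc T) (YT T P) K ≤ o2 R :=
  (h.E_le_o2X hK).trans (h.o2X_le_of_le hK h1 h2)

/-- **(B1)** -/
theorem eab : IsElementaryAbelian 2 (EI (zc T) (YT T P) K : Subgroup G) ∧ EI (zc T) (YT T P) K ≤ o2 (DT T) := by
  refine ⟨eab_iff.2 ⟨?_, fun x hx => (mem_zc.1 (h.E_le_zc hK hx)).2.1⟩, h.E_le_o2 hK le_rfl (h.D_le_XK K)⟩
  intro x hx
  rw [mem_centralizer_iff]
  intro y hy
  exact (mem_zc.1 (h.E_le_zc hK hx)).2.2 y (h.E_le_o2X hK hy)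

omit hK

/-! ### `N i` -/

omit h in
theorem Y_norm_N (i : ι) : YT T P i ≤ normalizer (NT T F P i : Set G) := KL.FlagNO.le_normalizer_V' _ _

omit h in
theorem F_le_N (i : ι) : F i ≤ NT T F P i := KL.FlagNO.le_V' _ _

theorem N_le_E {K : Set ι} {i : ι} (hi : i ∈ K) : NT T F P i ≤ EI (zc T) (YT T P) K := by
  refine KL.FlagNO.V_le_elem fun g hg z hz => ?_
  have h1 : g ∈ (⨆ i : K, YT T P i : Subgroup G) := (le_iSup (fun i : K => YT T P i) ⟨i, hi⟩ : _ ≤ _) hg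
  exact (le_iSup (fun y : (⨆ i : K, YT T P i : Subgroup G) => cj (y : G) (zc T)) ⟨g, h1⟩ : _ ≤ _)
    ⟨z, h.F_le i hz, rfl⟩

theorem O_le_Y (i : ι) : o2 (DT T) ≤ YT T P i := (o2_le _).trans le_sup_left

theorem N_el (i : ι) : IsElementaryAbelian 2 (NT T F P i : Subgroup G) :=
  eab_mono (h.eab (h.ne_univ i)).1 (h.N_le_E rfl)

/-- `C_{Y_i}(N_i) ≤ D` -/
theorem cent_N_le (i : ι) : YT T P i ⊓ centralizer (NT T F P i : Set G) ≤ DT T := by
  rw [← h.stab i]
  exact inf_le_inf_left _ (centralizer_le (F_le_N i))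

theorem Y_norm_cN (i : ι) :
    YT T P i ≤ normalizer ((YT T P i ⊓ centralizer (NT T F P i : Set G) : Subgroup G) : Set G) := by
  intro g hg
  rw [mem_normalizer_iff_cj, cj_inf, cj_centralizer, cj_eq_of_mem_normalizer (Y_norm_N i hg),
    cj_eq_of_mem_normalizer (Subgroup.le_normalizer hg)]

theorem o2Y_le_T (i : ι) : o2 (YT T P i) ≤ T := o2_le_of_sylow h.two (h.syl_Y i)

theorem o2Y_le_O (i : ι) : o2 (YT T P i) ≤ o2 (DT T) :=
  le_o2 ((h.o2Y_le_T i).trans h.TD) (o2_isPGroup _) ((le_sup_left : DT T ≤ _).trans (le_normalizer_o2 _))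

/-- **`O₂(Y_i) = C_O(N_i)`** -/
theorem Q_eq (i : ι) : o2 (YT T P i) = o2 (DT T) ⊓ centralizer (NT T F P i : Set G) := by
  apply le_antisymm
  · refine le_inf (h.o2Y_le_O i) ?_
    exact KL.FlagNO.o2_cent h.two (h.syl_Y i) (h.TF' i)
  · set X := YT T P i ⊓ centralizer (NT T F P i : Set G) with hX
    have h1 : o2 (DT T) ⊓ centralizer (NT T F P i : Set G) ≤ o2 X := by
      refine le_o2 (le_inf (inf_le_left.trans (h.O_le_Y i)) inf_le_right) ((o2_isPGroup _).to_le inf_le_left) ?_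
      intro x hx
      have hxD : x ∈ normalizer (o2 (DT T) : Set G) := le_normalizer_o2 _ (h.cent_N_le i hx)
      have hxN : x ∈ normalizer (NT T F P i : Set G) := Y_norm_N i hx.1
      rw [mem_normalizer_iff_cj, cj_inf, cj_centralizer, cj_eq_of_mem_normalizer hxD,
        cj_eq_of_mem_normalizer hxN]
    refine h1.trans (le_o2 ((o2_le _).trans inf_le_left) (o2_isPGroup _) ?_)
    refine (h.Y_norm_cN i).trans ?_
    exact normalizer_le_of_cj (F := o2) (fun g T => Cfsg.Agent.ZN.ChoiceSit.o2_cj g T) X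

/-- **(B2)**: no elementary abelian subgroup of `O` is an over-offender on `N i` -/
theorem no (ml : ML.Final.MLK.{u, u}) (i : ι) (kg : IsKGroup (YT T P i)) : NoOn (o2 (DT T)) (NT T F P i) := by
  intro A hA hAO
  refine KL.FlagNO.flag_no ml h.two (h.TD.trans le_sup_left) (h.syl_Y i) (h.TF' i) kg
    (eab_iff.1 (h.N_el i)).2 ?_ (eab_iff.1 hA).2
  rw [h.stab i]
  exact hAO

/-- `P j ≤ K D` if `P j` does not normalise `T ∩ K` -/
theorem P_le (j : ι) {K : Subgroup G} (hPK : P j ≤ normalizer (K : Set G))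
    (hm : ¬ P j ≤ normalizer ((T ⊓ K : Subgroup G) : Set G)) : P j ≤ K ⊔ DT T := by
  have hsP : ¬ 2 ∣ T.relIndex (P j) :=
    h.syl_sub (i := j) (h.par j).le ((le_sup_right : P j ≤ YT T P j).trans (h.Y_le_XK (Set.mem_singleton j)))
  have hPn : P j ≤ normalizer ((K ⊓ P j : Subgroup G) : Set G) := by
    intro g hg
    rw [mem_normalizer_iff_cj, cj_inf, cj_eq_of_mem_normalizer (hPK hg),
      cj_eq_of_mem_normalizer (Subgroup.le_normalizer hg)]
  rcases (h.par j).sup_eq_or_inf_le h.two hsP inf_le_right hPn with h1 | h1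
  · rw [← h1]
    exact sup_le (inf_le_left.trans le_sup_left) (h.TD.trans le_sup_right)
  · exfalso
    apply hm
    have h2 : o2 (P j) ≤ T := o2_le_of_sylow h.two hsP
    have h3 : (T ⊓ K : Subgroup G) = o2 (P j) ⊓ K := by
      apply le_antisymm
      · refine le_inf (le_trans ?_ h1) inf_le_right
        exact le_inf inf_le_left (le_inf inf_le_right (inf_le_left.trans (h.par j).le))
      · exact inf_le_inf_right _ h2
    rw [h3]
    intro g hg
    rw [mem_normalizer_iff_cj, cj_inf, cj_eq_of_mem_normalizer (le_normalizer_o2 _ hg),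
      cj_eq_of_mem_normalizer (hPK hg)]

/-- **(B3)** -/
theorem gen (j : ι) (K : Subgroup G) (hK : K ≤ YT T P j) (hn : YT T P j ≤ normalizer (K : Set G))
    (hc : ¬ K ⊓ o2 (DT T) ≤ centralizer (NT T F P j : Set G)) : YT T P j ≤ K ⊔ DT T := by
  have hE := h.eab (h.ne_univ j)
  set W : Subgroup G := EI (zc T) (YT T P) {j} with hW
  have hWT : W ≤ T := (h.E_le_o2X (h.ne_univ j)).trans (h.o2X _ (h.ne_univ j))
  have hWn : YT T P j ≤ normalizer (W : Set G) := EI_norm (ZJ := zc T) (Y := YT T P) (Set.mem_singleton j)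
  have hZW : zc T ≤ W := by
    have h1 := le_iSup (fun y : (⨆ i : ({j} : Set ι), YT T P i : Subgroup G) => cj (y : G) (zc T)) 1
    simp only [OneMemClass.coe_one, cj_one] at h1
    exact h1
  obtain ⟨y, hy, hyc⟩ : ∃ y ∈ YT T P j, ¬ K ⊓ o2 (DT T) ≤ centralizer (cj y (zc T) : Set G) := by
    by_contra hcon
    push Not at hcon
    apply hc
    refine comm_symm (KL.FlagNO.V_le_elem fun g hg z hz => ?_)
    exact comm_symm (hcon g hg) ⟨z, h.F_le j hz, rfl⟩
  have hWc : ∀ x ∈ W, ∀ y ∈ W, x * y = y * x := fun x hx y hy =>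
    mem_centralizer_iff.1 ((eab_iff.1 hE.1).1 hy) x hx
  have hW2 : ∀ x ∈ W, x * x = 1 := fun x hx => by rw [← pow_two]; exact (eab_iff.1 hE.1).2 x hx
  have hCW : W ⊓ centralizer (T : Set G) ≤ zc T := fun x hx =>
    mem_zc.2 ⟨hWT hx.1, (eab_iff.1 hE.1).2 x hx.1, fun y hy => mem_centralizer_iff.1 hx.2 y hy⟩
  have hm := QP.moves_of (B := T) (D := DT T) (L := P j) (W := W) (K := K) (Z := zc T)
    (h.Syl_D j) le_rfl hWT hWc hW2 hWn hZW hCW hK hn inf_le_right (F := K ⊓ o2 (DT T))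
    (inf_le_inf_left _ (o2_le _)) hy hyc
  exact sup_le le_sup_right (h.P_le j ((le_sup_right : P j ≤ YT T P j).trans hn) hm)

/-- `Z^y ≤ N_i Z` for `y ∈ Y_i` -/
theorem ZN (i : ι) (y : G) (hy : y ∈ YT T P i) : cj y (zc T) ≤ NT T F P i ⊔ zc T := by
  have e : cj y (zc T) = ⨆ l, cj y (F l) := by
    conv_lhs => rw [h.zcT]
    rw [cj, Subgroup.map_iSup]
  rw [e]
  refine iSup_le fun l => ?_
  by_cases hl : l = i
  · subst hl
    have h1 := cj_mono y (F_le_N (T := T) (F := F) (P := P) l)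
    rw [cj_eq_of_mem_normalizer (Y_norm_N l hy)] at h1
    exact h1.trans le_sup_left
  · rw [cj_eq_of_mem_normalizer (centralizer_le_normalizer _ (h.Y_cent hl hy))]
    exact (h.F_le l).trans le_sup_right

/-- **The frame of THEOREM U.** -/
theorem toFr (ml : ML.Final.MLK.{u, u}) (kg : ∀ i, IsKGroup (YT T P i)) :
    Fr (o2 (DT T)) (DT T) (zc T) (YT T P) (NT T F P) where
  two := o2_isPGroup _
  OY := h.O_le_Y
  OZ := o2_le _
  DY := fun _ => le_sup_left
  three := h.three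
  eab := fun K hK => h.eab hK
  NE := fun _ => h.N_le_E rfl
  YN := fun i => Y_norm_N i
  YQ := fun i => by
    rw [← h.Q_eq i]
    exact le_normalizer_o2 _
  no := fun i => h.no ml i (kg i)
  gen := h.gen
  ZN := h.ZN

/-! ### `N_G(T)` -/

/-- `N_G(T)` acts on `(F i)`, `(Y i)`, `(N i)` and normalises `O` -/
theorem symm {g : G} (hg : g ∈ normalizer (T : Set G)) :
    ∃ σ : Equiv.Perm ι, Sy (o2 (DT T)) (YT T P) (NT T F P) g σ ∧ ∀ i, cj g (F i) = F (σ i) := by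
  obtain ⟨σ, hσ⟩ := h.perm g hg
  have hz : cj g (zc T) = zc T := cj_eq_of_mem_normalizer (normalizer_le_normalizer_zc T hg)
  have hD : cj g (DT T) = DT T := by rw [cj_centralizer, hz]
  refine ⟨σ, ⟨?_, fun l => (hσ l).2, fun l => ?_⟩, fun i => (hσ i).1⟩
  · exact cj_eq_of_mem_normalizer
      (Cfsg.Agent.Omega.normalizer_le_normalizer_o2' _ (mem_normalizer_iff_cj.2 hD))
  · -- `N`
    have key : ∀ {g : G} {i j : ι}, cj g (F i) = F j → cj g (YT T P i) = YT T P j →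
        NT T F P j ≤ cj g (NT T F P i) := by
      intro g i j h1 h2
      refine KL.FlagNO.V_le_of_norm (by rw [← h1]; exact cj_mono g (F_le_N i)) fun y hy => ?_
      rw [← h2, mem_cj] at hy
      have h3 := mem_normalizer_iff_cj.1 (Y_norm_N (T := T) (F := F) (P := P) i hy)
      rw [mem_normalizer_iff_cj]
      have h4 : cj y (cj g (NT T F P i)) = cj g (cj (g⁻¹ * y * g) (NT T F P i)) := by
        rw [cj_cj, cj_cj]
        congr 1
        group
      rw [h4, h3]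
    apply le_antisymm
    · have h1 : cj g⁻¹ (F (σ l)) = F l := by rw [← (hσ l).1, cj_inv_cj]
      have h2 : cj g⁻¹ (YT T P (σ l)) = YT T P l := by rw [← (hσ l).2, cj_inv_cj]
      have h3 := cj_mono g (key h1 h2)
      rwa [cj_cj, mul_inv_cancel, cj_one] at h3
    · exact key (hσ l).1 (hσ l).2

theorem O_ne (i : ι) : o2 (DT T) ≠ ⊥ := by
  intro e
  apply h.ne i
  rw [eq_bot_iff, ← e]
  exact ((F_le_N i).trans (h.N_le_E (K := {i}) rfl)).trans (h.eab (h.ne_univ i)).2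

/-- **THEOREM U(q), (1) and (2)** over the `T`-frame. -/
theorem main [Finite ι] [Nonempty ι] (ml : ML.Final.MLK.{u, u}) (kg : ∀ i, IsKGroup (YT T P i))
    (nl : ∀ R : Subgroup G, R ≠ ⊥ → IsPGroup 2 R → ¬ ∀ j, YT T P j ≤ normalizer (R : Set G)) :
    ∃ A ∈ AA (o2 (DT T)), (∀ i, A ≤ o2 (YT T P i)) ∧ ∃ l m, l ≠ m ∧
      ¬ A ≤ centralizer (EI (zc T) (YT T P) {l, m} : Set G) ∧ ¬ 2 ∣ T.relIndex (XK F {l, m}) ∧
      ∀ g ∈ XK F {l, m} ⊓ normalizer (T : Set G), ∀ i, cj g (F i) = F i := by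
  obtain ⟨i⟩ := ‹Nonempty ι›
  obtain ⟨A, hA, hc, l, m, hlm, hm, hs, hf⟩ := (h.toFr ml kg).mainT (h.O_ne i) nl h.two h.inj h.TF'
    (fun g hg => h.symm hg) h.ker
  rw [XF_eq] at hs hf
  refine ⟨A, hA, fun j => ?_, l, m, hlm, hm, hs, hf⟩
  rw [h.Q_eq j]
  exact le_inf hA.2.1 (hc j)

end TF

end Cfsg.Agent.Omega.EDel.UQ

end

section


/-!
# The hypotheses `oT`, `VX`, `cV`, `dis` of `TypT.of` (helper848 #25339) from the block data

`T` a 2-group, `F i ≤ V i`, `E i` normalises `V i` and centralises the `V c`, `c ≠ i`.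

* `oT_of` : `O₂(C_G(F_l : l ≠ i, j)) ≤ T`;
* `cV_of`, `dis_of` : from the independence of the `V i`;
* `V_le_XS` (`VX`), `exists_ord` : `E` induces a group containing `SL₂(F)` on `V`.
-/

set_option autoImplicit false
set_option linter.unusedSectionVars false

namespace Cfsg.Agent.Omega.NOThreeL.RWide.TBits

open Subgroup Cfsg
open Cfsg.Agent.ZN (zc o2)
open Cfsg.Agent.ZN.ChoiceBase (cj cj_mono cj_inf cj_centralizer cj_eq_of_mem_normalizer mem_cj mem_normalizer_iff_cj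
  cj_cj_inv cj_inv_cj cj_cj cj_one)
open Cfsg.Agent.Omega.EDel.UQ (XK XK_cent le_XK XK_mono XF_eq o2X_of_mv)
open Cfsg.Agent.Omega.EDel.ThmU (XF)
open Cfsg.Agent.Omega.NoFF.Basic (comm_symm)
open Cfsg.Agent.Omega.NOThreeL.RWide (XS YY conj_mem_XS XS_mono le_YY)

universe u

variable {G : Type u} [Group G] {ι : Type*}

/-! ### `oT` -/

/-- powers of `a ρ⁻¹` act on `V` as those of `ρ⁻¹`, if `a` centralises `V` and `ρ` normalises `V` -/
theorem conj_pow {V : Subgroup G} {a ρ : G} (ha : a ∈ centralizer (V : Set G)) (hρ : ρ ∈ normalizer (V : Set G))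
    (n : ℕ) : ∀ v ∈ V, (a * ρ⁻¹) ^ n * v * ((a * ρ⁻¹) ^ n)⁻¹ = (ρ ^ n)⁻¹ * v * ρ ^ n := by
  induction n with
  | zero => intro v _; simp
  | succ n ih =>
    intro v hv
    have h1 : ρ⁻¹ * v * ρ ∈ V := by
      have := (mem_normalizer_iff.1 (inv_mem hρ) v).1 hv
      rwa [inv_inv] at this
    have h2 : (ρ⁻¹ * v * ρ) * a = a * (ρ⁻¹ * v * ρ) := mem_centralizer_iff.1 ha _ h1
    calc (a * ρ⁻¹) ^ (n + 1) * v * ((a * ρ⁻¹) ^ (n + 1))⁻¹
        = (a * ρ⁻¹) ^ n * (a * (ρ⁻¹ * v * ρ) * a⁻¹) * ((a * ρ⁻¹) ^ n)⁻¹ := by rw [pow_succ]; group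
      _ = (a * ρ⁻¹) ^ n * (ρ⁻¹ * v * ρ) * ((a * ρ⁻¹) ^ n)⁻¹ := by rw [← h2, mul_inv_cancel_right]
      _ = (ρ ^ n)⁻¹ * (ρ⁻¹ * v * ρ) * ρ ^ n := ih _ h1
      _ = (ρ ^ (n + 1))⁻¹ * v * ρ ^ (n + 1) := by
        rw [pow_succ' ρ n]
        group

/-- **`oT`** : `O₂(C_G(F_l : l ≠ i, j)) ≤ T` -/
theorem oT_of [Finite G] {T : Subgroup G} {F V E : ι → Subgroup G} (two : IsPGroup 2 T)
    (hT : ∀ i, T ≤ centralizer (F i : Set G)) (FV : ∀ i, F i ≤ V i)
    (EN : ∀ i, E i ≤ normalizer (V i : Set G)) (EC : ∀ b c, b ≠ c → E b ≤ centralizer (V c : Set G))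
    (ord : ∀ i, ∃ ρ ∈ E i, ∀ k : ℕ, ∃ v ∈ V i, ρ ^ 2 ^ k * v ≠ v * ρ ^ 2 ^ k)
    (NT : ∀ n ∈ normalizer (T : Set G), ∃ σ : Equiv.Perm ι, ∀ i, cj n (F i) = F (σ i) ∧ cj n (V i) = V (σ i))
    (ker : ∀ n ∈ normalizer (T : Set G), (∃ k : ℕ, n ^ 2 ^ k = 1) → (∀ i, cj n (F i) = F i) → n ∈ T)
    (i j : ι) : o2 (XF F i j) ≤ T := by
  rw [XF_eq]
  refine o2X_of_mv two (le_XK fun n _ => hT n) ker fun g hg _ i hne => ?_
  obtain ⟨σ, hσ⟩ := NT g hg
  obtain ⟨ρ, hρ, hord⟩ := ord i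
  refine ⟨ρ, le_XK (H := E i) (fun n hn => (EC i n fun e => hn e.symm).trans (centralizer_le (FV n))) hρ, ?_⟩
  rintro ⟨k, hk⟩
  obtain ⟨v, hv, hne'⟩ := hord k
  apply hne'
  -- `g ρ g⁻¹` centralises `V i`
  have ha : g * ρ * g⁻¹ ∈ centralizer (V i : Set G) := by
    rw [mem_centralizer_iff]
    intro w hw
    have hc : σ.symm i ≠ i := by
      intro e
      apply hne
      have e' : σ i = i := by
        conv_lhs => rw [← e]
        rw [Equiv.apply_symm_apply]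
      rw [(hσ i).1, e']
    have h1 : g⁻¹ * w * g ∈ V (σ.symm i) := by
      rw [← mem_cj, (hσ _).2, Equiv.apply_symm_apply]
      exact hw
    have h2 := mem_centralizer_iff.1 (EC i _ (Ne.symm hc) hρ) _ h1
    calc w * (g * ρ * g⁻¹) = g * (g⁻¹ * w * g * ρ) * g⁻¹ := by group
      _ = g * (ρ * (g⁻¹ * w * g)) * g⁻¹ := by rw [h2]
      _ = g * ρ * g⁻¹ * w := by group
  have e : g * (ρ * g⁻¹ * ρ⁻¹) = (g * ρ * g⁻¹) * ρ⁻¹ := by group
  have h3 := conj_pow ha (EN i hρ) (2 ^ k) v hv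
  rw [← e, hk, one_mul, inv_one, mul_one] at h3
  calc ρ ^ 2 ^ k * v = ρ ^ 2 ^ k * ((ρ ^ 2 ^ k)⁻¹ * v * ρ ^ 2 ^ k) := by rw [← h3]
    _ = v * ρ ^ 2 ^ k := by group

/-! ### `cV`, `dis` -/

/-- **`dis`** -/
theorem dis_of {V : ι → Subgroup G} (ind : ∀ b, V b ⊓ (⨆ c : {c // c ≠ b}, V c) = ⊥) (i j : ι) (hij : i ≠ j) :
    V i ⊓ V j = ⊥ := by
  rw [eq_bot_iff, ← ind i]
  exact inf_le_inf_left _ (le_iSup (fun c : {c // c ≠ i} => V c) ⟨j, Ne.symm hij⟩)

/-- **`cV`** -/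
theorem cV_of {Z : Subgroup G} {F V : ι → Subgroup G} (sup : Z ≤ ⨆ i, F i) (FV : ∀ i, F i ≤ V i)
    (com : ∀ i j, V i ≤ centralizer (V j : Set G)) (ind : ∀ b, V b ⊓ (⨆ c : {c // c ≠ b}, V c) = ⊥) (i : ι) :
    V i ⊓ Z ≤ F i := by
  rintro x ⟨hx, hxZ⟩
  have h1 : (⨆ j, F j) ≤ F i ⊔ (⨆ c : {c // c ≠ i}, F c) := by
    refine iSup_le fun j => ?_
    by_cases hj : j = i
    · rw [hj]; exact le_sup_left
    · exact (le_iSup (fun c : {c // c ≠ i} => F c) ⟨j, hj⟩).trans le_sup_right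
  have h2 : x ∈ F i ⊔ (⨆ c : {c // c ≠ i}, F c) := h1 (sup hxZ)
  have hn : F i ≤ normalizer ((⨆ c : {c // c ≠ i}, F c : Subgroup G) : Set G) := by
    refine le_trans ?_ (centralizer_le_normalizer _)
    refine comm_symm (iSup_le fun c => ?_)
    exact (FV c).trans ((com c i).trans (centralizer_le (FV i)))
  have h2' : x ∈ ((F i ⊔ (⨆ c : {c // c ≠ i}, F c) : Subgroup G) : Set G) := h2
  rw [coe_mul_of_left_le_normalizer_right _ _ hn] at h2'
  obtain ⟨f, hf, w, hw, rfl⟩ := Set.mem_mul.1 h2'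
  have h3 : w ∈ V i := by
    have h4 := mul_mem (inv_mem (FV i hf)) hx
    rwa [inv_mul_cancel_left] at h4
  have h5 : w ∈ V i ⊓ (⨆ c : {c // c ≠ i}, V c) :=
    ⟨h3, (iSup_mono fun c : {c // c ≠ i} => FV c) hw⟩
  rw [ind i, mem_bot] at h5
  rw [h5, mul_one]
  exact hf

/-! ### Natural `SL₂(F)`-modules -/

section nat

variable {F : Type} [Field F] {e : G → Fin 2 → F} {E N : Subgroup G}

/-- a matrix of determinant 1 with given first column -/
theorem exists_col (x : Fin 2 → F) (hx : x ≠ 0) :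
    ∃ M : Matrix.SpecialLinearGroup (Fin 2) F, M.1.mulVec ![1, 0] = x := by
  by_cases h0 : x 0 = 0
  · have h1 : x 1 ≠ 0 := by
      intro h1
      apply hx
      funext i
      fin_cases i
      · exact h0
      · exact h1
    refine ⟨⟨!![0, -(x 1)⁻¹; x 1, 0], by rw [Matrix.det_fin_two_of]; field_simp; ring⟩, ?_⟩
    funext i
    fin_cases i
    · simp [Matrix.mulVec, dotProduct, Fin.sum_univ_two, h0]
    · simp [Matrix.mulVec, dotProduct, Fin.sum_univ_two]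
  · refine ⟨⟨!![x 0, 0; x 1, (x 0)⁻¹], by rw [Matrix.det_fin_two_of]; field_simp; ring⟩, ?_⟩
    funext i
    fin_cases i
    · simp [Matrix.mulVec, dotProduct, Fin.sum_univ_two]
    · simp [Matrix.mulVec, dotProduct, Fin.sum_univ_two]

/-- `SL₂(F)` is transitive on the nonzero vectors -/
theorem exists_mulVec {x y : Fin 2 → F} (hx : x ≠ 0) (hy : y ≠ 0) :
    ∃ M : Matrix.SpecialLinearGroup (Fin 2) F, M.1.mulVec x = y := by
  obtain ⟨A, hA⟩ := exists_col x hx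
  obtain ⟨B, hB⟩ := exists_col y hy
  refine ⟨B * A⁻¹, ?_⟩
  have h1 : (A⁻¹).1.mulVec x = ![1, 0] := by
    rw [← hA, Matrix.mulVec_mulVec, ← Matrix.SpecialLinearGroup.coe_mul, inv_mul_cancel,
      Matrix.SpecialLinearGroup.coe_one, Matrix.one_mulVec]
  rw [Matrix.SpecialLinearGroup.coe_mul, ← Matrix.mulVec_mulVec, h1, hB]

variable (mul : ∀ v ∈ N, ∀ w ∈ N, e (v * w) = e v + e w) (inj : ∀ v ∈ N, e v = 0 → v = 1)
  (full : ∀ M : Matrix.SpecialLinearGroup (Fin 2) F, ∃ g ∈ E, ∀ v ∈ N, e (g * v * g⁻¹) = M.1.mulVec (e v))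
  (EN : E ≤ normalizer (N : Set G))

include mul in
theorem e_one : e 1 = 0 := by
  have h := mul 1 (one_mem _) 1 (one_mem _)
  rw [mul_one] at h
  simpa using h

include mul in
theorem e_inv {v : G} (hv : v ∈ N) : e v⁻¹ = -e v := by
  have h := mul v hv v⁻¹ (inv_mem hv)
  rw [mul_inv_cancel, e_one mul] at h
  exact (neg_eq_of_add_eq_zero_right h.symm).symm

include mul inj in
theorem e_inj {v w : G} (hv : v ∈ N) (hw : w ∈ N) (h : e v = e w) : v = w := by
  have h1 := inj (v * w⁻¹) (mul_mem hv (inv_mem hw)) (by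
    rw [mul v hv _ (inv_mem hw), e_inv mul hw, h, add_neg_cancel])
  exact mul_inv_eq_one.1 h1

include mul inj full EN in
/-- **irreducibility** : `N ≤ ⟨A^E⟩` for `1 ≠ A ≤ N` -/
theorem N_le_XS {A : Subgroup G} (hA : A ≤ N) (hA1 : A ≠ ⊥) : N ≤ XS A E := by
  obtain ⟨a, ha, ha1⟩ : ∃ a ∈ A, a ≠ 1 := by
    by_contra hcon
    push Not at hcon
    exact hA1 ((eq_bot_iff_forall _).2 hcon)
  have hea : e a ≠ 0 := fun h => ha1 (inj a (hA ha) h)
  intro v hv
  by_cases hv1 : v = 1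
  · rw [hv1]; exact one_mem _
  have hev : e v ≠ 0 := fun h => hv1 (inj v hv h)
  obtain ⟨M, hM⟩ := exists_mulVec hea hev
  obtain ⟨g, hg, hgM⟩ := full M
  have h1 : g * a * g⁻¹ ∈ N := (mem_normalizer_iff.1 (EN hg) a).1 (hA ha)
  have h2 : g * a * g⁻¹ = v := e_inj mul inj h1 hv (by rw [hgM a (hA ha), hM])
  rw [← h2]
  exact conj_mem_XS hg ha

/-- an element of order 3 of `SL₂(F)` -/
theorem exists_three : ∃ M : Matrix.SpecialLinearGroup (Fin 2) F, M ^ 3 = 1 ∧ M ≠ 1 := by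
  let M : Matrix.SpecialLinearGroup (Fin 2) F := ⟨!![0, -1; 1, -1], by rw [Matrix.det_fin_two_of]; ring⟩
  have hM : (M : Matrix (Fin 2) (Fin 2) F) = !![0, -1; 1, -1] := rfl
  refine ⟨M, ?_, ?_⟩
  · apply Matrix.SpecialLinearGroup.ext
    intro i j
    rw [Matrix.SpecialLinearGroup.coe_pow, Matrix.SpecialLinearGroup.coe_one, pow_succ, pow_two, hM]
    fin_cases i <;> fin_cases j <;> simp [Matrix.mul_apply, Fin.sum_univ_two]
  · intro h
    have h1 := congrArg (fun M : Matrix.SpecialLinearGroup (Fin 2) F => M.1 0 0) h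
    simp [hM] at h1

include full EN in
/-- some `ρ ∈ E` has no 2-power centralising `N` -/
theorem exists_ord (sur : ∀ x : Fin 2 → F, ∃ v ∈ N, e v = x) :
    ∃ ρ ∈ E, ∀ k : ℕ, ∃ v ∈ N, ρ ^ 2 ^ k * v ≠ v * ρ ^ 2 ^ k := by
  obtain ⟨M, hM3, hM1⟩ := exists_three (F := F)
  obtain ⟨ρ, hρ, hact⟩ := full M
  refine ⟨ρ, hρ, fun k => ?_⟩
  by_contra hcon
  push Not at hcon
  have hpow : ∀ n : ℕ, ∀ v ∈ N, e (ρ ^ n * v * (ρ ^ n)⁻¹) = (M ^ n).1.mulVec (e v) := by
    intro n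
    induction n with
    | zero => intro v _; simp
    | succ n ih =>
      intro v hv
      have h1 : ρ * v * ρ⁻¹ ∈ N := (mem_normalizer_iff.1 (EN hρ) v).1 hv
      have e1 : ρ ^ (n + 1) * v * (ρ ^ (n + 1))⁻¹ = ρ ^ n * (ρ * v * ρ⁻¹) * (ρ ^ n)⁻¹ := by
        rw [pow_succ]; group
      rw [e1, ih _ h1, hact v hv, Matrix.mulVec_mulVec, ← Matrix.SpecialLinearGroup.coe_mul, ← pow_succ]
  have h1 : M ^ 2 ^ k = 1 := by
    apply Subtype.ext
    apply Matrix.ext_of_mulVec_single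
    intro i
    obtain ⟨v, hv, hve⟩ := sur (Pi.single i 1)
    have h2 := hpow (2 ^ k) v hv
    rw [hcon v hv, mul_inv_cancel_right, hve] at h2
    rw [← h2, Matrix.SpecialLinearGroup.coe_one, Matrix.one_mulVec]
  apply hM1
  have h3 : orderOf M ∣ 3 := orderOf_dvd_of_pow_eq_one hM3
  have h4 : orderOf M ∣ 2 ^ k := orderOf_dvd_of_pow_eq_one h1
  have h5 : orderOf M ∣ 1 := by
    have hc : Nat.Coprime 3 (2 ^ k) := Nat.Coprime.pow_right k (by norm_num)
    rw [← hc]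
    exact Nat.dvd_gcd h3 h4
  exact orderOf_eq_one_iff.1 (Nat.dvd_one.1 h5)

end nat

/-- **`VX`** -/
theorem VX_of {F V E : ι → Subgroup G} (FV : ∀ i, F i ≤ V i)
    (EC : ∀ b c, b ≠ c → E b ≤ centralizer (V c : Set G)) (i : ι) (h : V i ≤ XS (F i) (E i)) :
    V i ≤ XS (F i) (YY F i) :=
  h.trans (XS_mono (le_YY fun l hl => (EC i l (Ne.symm hl)).trans (centralizer_le (FV l))))

end Cfsg.Agent.Omega.NOThreeL.RWide.TBits

end

end

-- merged: Cfsg.Agent.Mrg.Omega.NOThreeL.RWide.TAct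
section

section


/-!
# `N_G(T)` permutes the lines (helper848 #24915 (A))

`V = ∏ N b` elementary abelian, lines `l b ≤ N b`, `R = ∏ l b` (`= Z_J`), `B = C_S(R)`, `T` the kernel of `S` on the blocks,
`F b = C_(l b)(T)`, `C = C_G(Ω₁Z(S))`.

* `Tf S V N l` : the situation; inputs `I1 : N_C(T) ≤ N_G(B)` (`I1_of` : from `C ≤ N_G(R)`), `I2 : N_C(B) ≤ N_G(V)`, `I4 : Ω₁Z(B) ≤ R`, `wc`, `permX`
  (helper655 #26055) and the dichotomy `par` for the minimal parabolics;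
* `Tf.R_le` : `N_G(R) ≤ C_G(R) (N_G(B) ∩ N_G(V))`;  `Tf.B_le` : `N_G(B) ≤ N_G(V)`;  `Tf.T_le` : `N_G(T) ≤ N_G(B) ∩ N_G(V)`;
* `Tf.NT`, `Tf.ker`, `Tf.zcT`, `Tf.ne`, `Tf.F_le` : the hypotheses of `TypT.of`.
-/

set_option autoImplicit false
set_option linter.unusedSectionVars false

namespace Cfsg.Agent.Omega.NOThreeL.RWide.TAct

open Subgroup Cfsg Cfsg.Agent.Omega.MinPar
open Cfsg.Agent.ZN (zc o2)
open Cfsg.Agent.ZN.ChoiceBase (cj cj_mono cj_inf cj_centralizer cj_eq_of_mem_normalizer mem_cj mem_normalizer_iff_cj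
  cj_cj_inv cj_inv_cj cj_cj cj_one mem_zc isPGroup_cj card_cj)
open Cfsg.Agent.ZN.ChoiceSit (Syl syl_conj exists_syl)
open Cfsg.Agent.MinSimple.MinParabolic (IsMinPar le_of_forall)
open Cfsg.Agent.MinSimple.VModule (zc_le normalizer_le_normalizer_zc le_centralizer_zc)
open Cfsg.Agent.Omega.NoFF.Basic (comm_symm)

universe u v

variable {G : Type u} [Group G] {ι : Type v}

/-- the kernel of `S` on the blocks -/
abbrev TT (S : Subgroup G) (N : ι → Subgroup G) : Subgroup G := S ⊓ ⨅ b, normalizer (N b : Set G)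

/-- `B = C_S(∏ l b)` -/
abbrev BB (S : Subgroup G) (l : ι → Subgroup G) : Subgroup G := S ⊓ centralizer ((⨆ b, l b : Subgroup G) : Set G)

/-- `C_(l b)(T)` -/
abbrev FF (S : Subgroup G) (N l : ι → Subgroup G) (b : ι) : Subgroup G := l b ⊓ centralizer (TT S N : Set G)

/-- `B ≤ T` -/
theorem BT_of {S : Subgroup G} {N l : ι → Subgroup G}
    (perm : ∀ s ∈ S, ∀ b, ∃ c, cj s (N b) = N c ∧ cj s (l b) = l c) (inj : ∀ b c, l b = l c → b = c) :
    BB S l ≤ TT S N := by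
  rintro b ⟨hbS, hbC⟩
  refine ⟨hbS, (mem_iInf.2 fun c => ?_ : _)⟩
  obtain ⟨d, hd, hd'⟩ := perm b hbS c
  have h1 : cj b (l c) = l c :=
    cj_eq_of_mem_normalizer (centralizer_le_normalizer _ (centralizer_le (le_iSup l c) hbC))
  rw [h1] at hd'
  have h2 := inj _ _ hd'
  subst h2
  exact mem_normalizer_iff_cj.2 hd

/-- the input `I1` from `C ≤ N_G(∏ l b)` -/
theorem I1_of {S C : Subgroup G} {N l : ι → Subgroup G}
    (perm : ∀ s ∈ S, ∀ b, ∃ c, cj s (N b) = N c ∧ cj s (l b) = l c) (inj : ∀ b c, l b = l c → b = c)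
    (hI : C ≤ normalizer ((⨆ b, l b : Subgroup G) : Set G)) :
    C ⊓ normalizer (TT S N : Set G) ≤ normalizer (BB S l : Set G) := by
  rintro r ⟨hr, hrT⟩
  have e : BB S l = TT S N ⊓ centralizer ((⨆ b, l b : Subgroup G) : Set G) :=
    le_antisymm (le_inf (BT_of perm inj) inf_le_right) (le_inf (inf_le_left.trans inf_le_left) inf_le_right)
  rw [mem_normalizer_iff_cj, e, cj_inf, cj_eq_of_mem_normalizer hrT, cj_centralizer,
    cj_eq_of_mem_normalizer (hI hr)]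

/-- **The situation.** -/
structure Tf [Finite G] (S : Sylow 2 G) (V : Subgroup G) (N l : ι → Subgroup G) : Prop where
  com : V ≤ centralizer (V : Set G)
  sq : ∀ v ∈ V, v ^ 2 = 1
  sup : ⨆ b, N b = V
  ind : ∀ b, N b ⊓ (⨆ c : {c // c ≠ b}, N c) = ⊥
  lN : ∀ b, l b ≤ N b
  lne : ∀ b, l b ≠ ⊥
  perm : ∀ s ∈ (S : Subgroup G), ∀ b, ∃ c, cj s (N b) = N c ∧ cj s (l b) = l c
  nS : normalizer ((S : Subgroup G) : Set G) ≤ normalizer (V : Set G)
  par : ∀ R, IsPar (S : Subgroup G) R → R ≤ centralizer (zc (S : Subgroup G) : Set G) ∨ R ≤ normalizer (V : Set G)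
  /-- see `I1_of` -/
  I1 : centralizer (zc (S : Subgroup G) : Set G) ⊓ normalizer (TT (S : Subgroup G) N : Set G) ≤
    normalizer (BB (S : Subgroup G) l : Set G)
  I2 : centralizer (zc (S : Subgroup G) : Set G) ⊓ normalizer (BB (S : Subgroup G) l : Set G) ≤ normalizer (V : Set G)
  I4 : zc (BB (S : Subgroup G) l) ≤ ⨆ b, l b
  wc : ∀ g ∈ normalizer (V : Set G), cj g (BB (S : Subgroup G) l) ≤ S → cj g (BB (S : Subgroup G) l) = BB (S : Subgroup G) l
  permX : ∀ x ∈ normalizer (BB (S : Subgroup G) l : Set G), x ∈ normalizer (V : Set G) →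
    ∀ b, ∃ c, cj x (l b) = l c ∧ cj x (N b) = N c

namespace Tf

variable [Finite G] {S : Sylow 2 G} {V : Subgroup G} {N l : ι → Subgroup G} (h : Tf S V N l)
include h

theorem SV : (S : Subgroup G) ≤ normalizer (V : Set G) := le_normalizer.trans h.nS

theorem V2 : IsPGroup 2 V := fun x => ⟨1, Subtype.ext (by simpa using h.sq x x.2)⟩

theorem VS : V ≤ (S : Subgroup G) := le_of_le_normalizer S h.V2 h.SV

theorem NV (b : ι) : N b ≤ V := by rw [← h.sup]; exact le_iSup N b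

theorem lV (b : ι) : l b ≤ V := (h.lN b).trans (h.NV b)

theorem RV : (⨆ b, l b) ≤ V := iSup_le h.lV

theorem RS : (⨆ b, l b) ≤ (S : Subgroup G) := h.RV.trans h.VS

/-- `N b` determines `b` -/
theorem N_inj {b c : ι} (e : N b = N c) : b = c := by
  by_contra hne
  apply h.lne b
  rw [eq_bot_iff, ← h.ind b]
  exact le_inf (h.lN b) (((h.lN b).trans e.le).trans
    (le_iSup (fun c : {c // c ≠ b} => N c) ⟨c, fun e => hne e.symm⟩))

theorem l_inj {b c : ι} (e : l b = l c) : b = c := by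
  by_contra hne
  apply h.lne b
  rw [eq_bot_iff, ← h.ind b]
  exact le_inf (h.lN b) ((e.le.trans (h.lN c)).trans
    (le_iSup (fun c : {c // c ≠ b} => N c) ⟨c, fun e => hne e.symm⟩))

/-- `S` normalises `R` -/
theorem SR : (S : Subgroup G) ≤ normalizer ((⨆ b, l b : Subgroup G) : Set G) := by
  intro s hs
  refine Cfsg.Agent.ZN.ChoiceBase.mem_normalizer_of_cj_le ?_
  rw [cj, Subgroup.map_iSup]
  refine iSup_le fun b => ?_
  obtain ⟨c, -, hc⟩ := h.perm s hs b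
  exact (le_of_eq hc).trans (le_iSup l c)

/-- `R ≤ B` -/
theorem RB : (⨆ b, l b) ≤ BB (S : Subgroup G) l :=
  le_inf h.RS (h.RV.trans (h.com.trans (centralizer_le h.RV)))

/-- `Ω₁Z(B) = R` -/
theorem zcB : zc (BB (S : Subgroup G) l) = ⨆ b, l b := by
  refine le_antisymm h.I4 fun x hx => ?_
  exact mem_zc.2 ⟨h.RB hx, h.sq x (h.RV hx), fun y hy => (mem_centralizer_iff.1 hy.2 x hx).symm⟩

/-- `Z ≤ R` -/
theorem ZR : zc (S : Subgroup G) ≤ ⨆ b, l b := by
  rw [← h.zcB]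
  intro x hx
  obtain ⟨hxS, hx2, hxc⟩ := mem_zc.1 hx
  refine mem_zc.2 ⟨⟨hxS, mem_centralizer_iff.2 fun y hy => hxc y (h.RS hy)⟩, hx2, fun y hy => hxc y hy.1⟩

/-- `C_G(R) ≤ C` -/
theorem DC : centralizer ((⨆ b, l b : Subgroup G) : Set G) ≤ centralizer (zc (S : Subgroup G) : Set G) :=
  centralizer_le h.ZR

/-- `S` normalises `T` -/
theorem ST : (S : Subgroup G) ≤ normalizer (TT (S : Subgroup G) N : Set G) := by
  have key : ∀ s ∈ (S : Subgroup G), cj s (TT (S : Subgroup G) N) ≤ TT (S : Subgroup G) N := by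
    intro s hs
    rintro _ ⟨t, ⟨htS, htN⟩, rfl⟩
    refine ⟨(S : Subgroup G).mul_mem ((S : Subgroup G).mul_mem hs htS) ((S : Subgroup G).inv_mem hs),
      (mem_iInf.2 fun b => ?_ : _)⟩
    obtain ⟨c, hc, -⟩ := h.perm s⁻¹ ((S : Subgroup G).inv_mem hs) b
    change s * t * s⁻¹ ∈ _
    rw [mem_normalizer_iff_cj, ← cj_cj, ← cj_cj, hc, cj_eq_of_mem_normalizer (mem_iInf.1 htN c), ← hc, cj_cj_inv]
  exact fun s hs => Cfsg.Agent.ZN.ChoiceBase.mem_normalizer_of_cj_le (key s hs)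

/-- `S` normalises `B` -/
theorem SB : (S : Subgroup G) ≤ normalizer (BB (S : Subgroup G) l : Set G) := by
  intro s hs
  rw [mem_normalizer_iff_cj, cj_inf, cj_eq_of_mem_normalizer (Subgroup.le_normalizer hs), cj_centralizer,
    cj_eq_of_mem_normalizer (h.SR hs)]

/-- `B ≤ T` -/
theorem BT : BB (S : Subgroup G) l ≤ TT (S : Subgroup G) N := BT_of h.perm fun _ _ e => h.l_inj e

theorem B2 : IsPGroup 2 (BB (S : Subgroup G) l) := S.isPGroup'.to_le inf_le_left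

theorem T2 : IsPGroup 2 (TT (S : Subgroup G) N) := S.isPGroup'.to_le inf_le_left

theorem nB_nR : normalizer (BB (S : Subgroup G) l : Set G) ≤ normalizer ((⨆ b, l b : Subgroup G) : Set G) := by
  have h1 := normalizer_le_normalizer_zc (BB (S : Subgroup G) l)
  rwa [h.zcB] at h1

omit h in
theorem sylS {P : Subgroup G} (hSP : (S : Subgroup G) ≤ P) : Syl (S : Subgroup G) P :=
  ⟨hSP, S.isPGroup', fun _ _ hQ2 hSQ => (S.is_maximal' hQ2 hSQ)⟩

/-- Frattini inside `P`, `S ≤ P ≤ N_G(R)` -/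
theorem frattini {P : Subgroup G} (hSP : (S : Subgroup G) ≤ P)
    (hP : P ≤ normalizer ((⨆ b, l b : Subgroup G) : Set G)) {p : G} (hp : p ∈ P) :
    ∃ d ∈ centralizer ((⨆ b, l b : Subgroup G) : Set G), d ∈ P ∧
      ∃ n ∈ normalizer (BB (S : Subgroup G) l : Set G), n ∈ P ∧ p = d * n := by
  set K := P ⊓ centralizer ((⨆ b, l b : Subgroup G) : Set G) with hK
  have hKn : ∀ g ∈ P, cj g K = K := fun g hg => by
    rw [hK, cj_inf, cj_eq_of_mem_normalizer (Subgroup.le_normalizer hg), cj_centralizer,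
      cj_eq_of_mem_normalizer (hP hg)]
  have hB : Syl (BB (S : Subgroup G) l) K := by
    have h1 := SQ1.FFOne.syl_inf (T := (S : Subgroup G)) (H := P) (N := K) (sylS hSP) inf_le_left
      (fun g hg n hn => by
        have := hKn g hg
        rw [← this]
        exact ⟨n, hn, rfl⟩)
    have e : (S : Subgroup G) ⊓ K = BB (S : Subgroup G) l := by
      rw [hK, ← inf_assoc, inf_eq_left.2 hSP]
    rwa [e] at h1
  have h1 : cj p (BB (S : Subgroup G) l) ≤ K := by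
    have h2 := cj_mono p hB.1
    rwa [hKn p hp] at h2
  obtain ⟨Q, hQ, hle⟩ := exists_syl (isPGroup_cj p h.B2) h1
  obtain ⟨d, hd, rfl⟩ := syl_conj hB hQ
  refine ⟨d, hd.2, hd.1, d⁻¹ * p, ?_, mul_mem (inv_mem hd.1) hp, by group⟩
  have h3 : cj (d⁻¹ * p) (BB (S : Subgroup G) l) ≤ BB (S : Subgroup G) l := by
    have := cj_mono d⁻¹ hle
    rwa [cj_inv_cj, cj_cj] at this
  exact mem_normalizer_iff_cj.2 (Subgroup.eq_of_le_of_card_ge h3 (by rw [card_cj]))

/-- `N(V) ∩ N(S) ≤ N(B)` and more: if `g ∈ N(V)` and `B^g ≤ S` then `g ∈ N(B)` -/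
theorem mem_nB {g : G} (hg : g ∈ normalizer (V : Set G)) (hgS : cj g (BB (S : Subgroup G) l) ≤ S) :
    g ∈ normalizer (BB (S : Subgroup G) l : Set G) := mem_normalizer_iff_cj.2 (h.wc g hg hgS)

theorem nS_nB : normalizer ((S : Subgroup G) : Set G) ≤ normalizer (BB (S : Subgroup G) l : Set G) := by
  intro g hg
  refine h.mem_nB (h.nS hg) ?_
  have h1 := cj_mono g (inf_le_left : BB (S : Subgroup G) l ≤ (S : Subgroup G))
  rwa [cj_eq_of_mem_normalizer hg] at h1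

/-- a minimal parabolic normalising a nontrivial 2-group is local -/
theorem isPar_of {R U : Subgroup G} (hR : IsMinPar (S : Subgroup G) R) (hU : IsPGroup 2 U) (hU1 : U ≠ ⊥)
    (hRU : R ≤ normalizer (U : Set G)) : IsPar (S : Subgroup G) R :=
  ⟨hR, (isLoc_of_le_normalizer S hR.le hU hU1 hRU).o2_ne⟩

theorem R_ne [Nonempty ι] : (⨆ b, l b) ≠ ⊥ := fun e =>
  h.lne (Classical.arbitrary ι) (by rw [eq_bot_iff, ← e]; exact le_iSup l _)

theorem T_ne [Nonempty ι] : TT (S : Subgroup G) N ≠ ⊥ := fun e => h.R_ne (by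
  rw [eq_bot_iff, ← e]; exact h.RB.trans h.BT)

/-- **`N_G(R) ≤ C_G(R) (N_G(B) ∩ N_G(V))`** -/
theorem R_le [Nonempty ι] : normalizer ((⨆ b, l b : Subgroup G) : Set G) ≤
    centralizer ((⨆ b, l b : Subgroup G) : Set G) ⊔
      (normalizer (BB (S : Subgroup G) l : Set G) ⊓ normalizer (V : Set G)) := by
  refine le_of_forall h.SR ?_ fun R hR hRN => ?_
  · exact le_trans (le_inf (inf_le_right.trans h.nS_nB) (inf_le_right.trans h.nS)) le_sup_right
  · intro r hr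
    obtain ⟨d, hd, hdR, n, hn, hnR, rfl⟩ := h.frattini hR.le hRN hr
    refine mul_mem (mem_sup_left hd) (mem_sup_right ⟨hn, ?_⟩)
    rcases h.par R (h.isPar_of hR (h.V2.to_le h.RV) h.R_ne hRN) with h1 | h1
    · exact h.I2 ⟨h1 hnR, hn⟩
    · exact h1 hnR

/-- **`N_G(B) ≤ N_G(V)`** -/
theorem B_le [Nonempty ι] : normalizer (BB (S : Subgroup G) l : Set G) ≤ normalizer (V : Set G) := by
  intro g hg
  have h1 := h.R_le (h.nB_nR hg)
  have hn : normalizer (BB (S : Subgroup G) l : Set G) ⊓ normalizer (V : Set G) ≤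
      normalizer ((centralizer ((⨆ b, l b : Subgroup G) : Set G) : Subgroup G) : Set G) := by
    intro x hx
    rw [mem_normalizer_iff_cj, cj_centralizer, cj_eq_of_mem_normalizer (h.nB_nR hx.1)]
  have h2 : g ∈ ((centralizer ((⨆ b, l b : Subgroup G) : Set G) ⊔
      (normalizer (BB (S : Subgroup G) l : Set G) ⊓ normalizer (V : Set G)) : Subgroup G) : Set G) := h1
  rw [coe_mul_of_right_le_normalizer_left _ _ hn] at h2
  obtain ⟨d, hd, n, hn', rfl⟩ := Set.mem_mul.1 h2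
  have h3 : d ∈ normalizer (BB (S : Subgroup G) l : Set G) := by
    have := mul_mem hg (inv_mem hn'.1)
    rwa [mul_inv_cancel_right] at this
  exact mul_mem (h.I2 ⟨h.DC hd, h3⟩) hn'.2

/-- `N_G(T) ∩ N_G(V) ≤ N_G(B)` -/
theorem TV_le : normalizer (TT (S : Subgroup G) N : Set G) ⊓ normalizer (V : Set G) ≤
    normalizer (BB (S : Subgroup G) l : Set G) := by
  rintro g ⟨hg, hgV⟩
  refine h.mem_nB hgV ?_
  have h1 := cj_mono g h.BT
  rw [cj_eq_of_mem_normalizer hg] at h1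
  exact h1.trans inf_le_left

/-- **`N_G(T) ≤ N_G(B) ∩ N_G(V)`** -/
theorem T_le [Nonempty ι] : normalizer (TT (S : Subgroup G) N : Set G) ≤
    normalizer (BB (S : Subgroup G) l : Set G) ⊓ normalizer (V : Set G) := by
  refine le_of_forall h.ST ?_ fun R hR hRN => ?_
  · exact le_inf (inf_le_right.trans h.nS_nB) (inf_le_right.trans h.nS)
  · rcases h.par R (h.isPar_of hR h.T2 h.T_ne hRN) with h1 | h1
    · have h2 : R ≤ normalizer (BB (S : Subgroup G) l : Set G) := fun r hr => h.I1 ⟨h1 hr, hRN hr⟩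
      exact le_inf h2 fun r hr => h.I2 ⟨h1 hr, h2 hr⟩
    · exact le_inf ((le_inf hRN h1).trans h.TV_le) h1

/-! ### the hypotheses of `TypT.of` -/

/-- `cj x (N b) = N c` and `cj x (l b) = l c` with one permutation -/
theorem exists_perm [Finite ι] {x : G} (hx : x ∈ normalizer (BB (S : Subgroup G) l : Set G))
    (hxV : x ∈ normalizer (V : Set G)) : ∃ σ : Equiv.Perm ι, ∀ b, cj x (l b) = l (σ b) ∧ cj x (N b) = N (σ b) := by
  choose f hf using h.permX x hx hxV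
  have hfi : Function.Injective f := by
    intro b c e
    apply h.N_inj
    have h1 : cj x (N b) = cj x (N c) := by rw [(hf b).2, (hf c).2, e]
    have h2 := congrArg (cj x⁻¹) h1
    rwa [cj_inv_cj, cj_inv_cj] at h2
  exact ⟨Equiv.ofBijective f (Finite.injective_iff_bijective.1 hfi), hf⟩

/-- **`NT`** (with the lines) -/
theorem NT' [Finite ι] [Nonempty ι] : ∀ n ∈ normalizer (TT (S : Subgroup G) N : Set G), ∃ σ : Equiv.Perm ι, ∀ i,
    cj n (FF (S : Subgroup G) N l i) = FF (S : Subgroup G) N l (σ i) ∧ cj n (N i) = N (σ i) ∧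
      cj n (l i) = l (σ i) := by
  intro n hn
  obtain ⟨hB, hV⟩ := h.T_le hn
  obtain ⟨σ, hσ⟩ := h.exists_perm hB hV
  refine ⟨σ, fun i => ⟨?_, (hσ i).2, (hσ i).1⟩⟩
  rw [FF, cj_inf, (hσ i).1, cj_centralizer, cj_eq_of_mem_normalizer hn]

/-- **`NT`** -/
theorem NT [Finite ι] [Nonempty ι] : ∀ n ∈ normalizer (TT (S : Subgroup G) N : Set G), ∃ σ : Equiv.Perm ι, ∀ i,
    cj n (FF (S : Subgroup G) N l i) = FF (S : Subgroup G) N l (σ i) ∧ cj n (N i) = N (σ i) := by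
  intro n hn
  obtain ⟨σ, hσ⟩ := h.NT' n hn
  exact ⟨σ, fun i => ⟨(hσ i).1, (hσ i).2.1⟩⟩

/-- `T` normalises the lines -/
theorem T_norm_l (b : ι) : TT (S : Subgroup G) N ≤ normalizer (l b : Set G) := by
  rintro t ⟨htS, htN⟩
  obtain ⟨c, hc, hc'⟩ := h.perm t htS b
  rw [cj_eq_of_mem_normalizer (mem_iInf.1 htN b)] at hc
  have h1 := h.N_inj hc
  subst h1
  exact mem_normalizer_iff_cj.2 hc'

/-- **`ne`** -/
theorem ne (b : ι) : FF (S : Subgroup G) N l b ≠ ⊥ := by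
  have : Fact (Nat.Prime 2) := ⟨Nat.prime_two⟩
  set T := TT (S : Subgroup G) N with hT
  have hlT : l b ≤ T := (le_iSup l b).trans (h.RB.trans h.BT)
  have hn : ((l b).subgroupOf T).Normal := normal_subgroupOf_of_le_normalizer (h.T_norm_l b)
  have hnil : Group.IsNilpotent T := h.T2.isNilpotent
  have hne : (l b).subgroupOf T ≠ ⊥ := by
    intro e
    apply h.lne b
    rw [eq_bot_iff]
    intro x hx
    have h1 : (⟨x, hlT hx⟩ : T) ∈ (l b).subgroupOf T := hx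
    rw [e, mem_bot] at h1
    exact mem_bot.2 (congrArg Subtype.val h1)
  have h1 := Cfsg.Agent.Lib.NormalAbelian.normal_inf_center_ne_bot ((l b).subgroupOf T) hne
  rw [Ne, Subgroup.eq_bot_iff_forall] at h1
  push Not at h1
  obtain ⟨w, ⟨hw, hwc⟩, hw1⟩ := h1
  intro e
  apply hw1
  have h2 : (w : G) ∈ FF (S : Subgroup G) N l b := by
    refine ⟨hw, mem_centralizer_iff.2 fun t ht => ?_⟩
    exact congrArg Subtype.val (mem_center_iff.1 hwc ⟨t, ht⟩)
  rw [e, mem_bot] at h2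
  exact Subtype.ext h2

theorem F_le_l (b : ι) : FF (S : Subgroup G) N l b ≤ l b := inf_le_left

theorem F_le_N (b : ι) : FF (S : Subgroup G) N l b ≤ N b := inf_le_left.trans (h.lN b)

/-- **`le`** -/
theorem F_le (b : ι) : FF (S : Subgroup G) N l b ≤ zc (TT (S : Subgroup G) N) := by
  rintro x ⟨hx, hxc⟩
  exact mem_zc.2 ⟨h.BT (h.RB (le_iSup l b hx)), h.sq x (h.lV b hx), fun y hy => mem_centralizer_iff.1 hxc y hy⟩

theorem F_inj {b c : ι} (e : FF (S : Subgroup G) N l b = FF (S : Subgroup G) N l c) : b = c := by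
  by_contra hne
  apply h.ne b
  rw [eq_bot_iff, ← h.ind b]
  exact le_inf (h.F_le_N b) ((e.le.trans (h.F_le_N c)).trans
    (le_iSup (fun c : {c // c ≠ b} => N c) ⟨c, fun e => hne e.symm⟩))

/-- **`ker`** -/
theorem ker [Finite ι] [Nonempty ι] : ∀ n ∈ normalizer (TT (S : Subgroup G) N : Set G), (∃ k : ℕ, n ^ 2 ^ k = 1) →
    (∀ i, cj n (FF (S : Subgroup G) N l i) = FF (S : Subgroup G) N l i) → n ∈ TT (S : Subgroup G) N := by
  rintro n hn ⟨k, hk⟩ hF
  set T := TT (S : Subgroup G) N with hT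
  set X := normalizer (BB (S : Subgroup G) l : Set G) ⊓ normalizer (V : Set G) with hX
  have hnN : ∀ i, cj n (N i) = N i := by
    obtain ⟨σ, hσ⟩ := h.NT n hn
    intro i
    have h1 : σ i = i := h.F_inj ((hσ i).1.symm.trans (hF i))
    rw [(hσ i).2, h1]
  have hz : IsPGroup 2 (zpowers n) := by
    have h1 : IsPGroup 2 (zpowers n) := by
      intro x
      obtain ⟨m, hm⟩ := mem_zpowers_iff.1 x.2
      refine ⟨k, Subtype.ext ?_⟩
      rw [SubmonoidClass.coe_pow, ← hm, ← zpow_natCast, ← zpow_mul, mul_comm, zpow_mul, zpow_natCast, hk, one_zpow]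
      rfl
    exact h1
  have hQ : IsPGroup 2 (zpowers n ⊔ T : Subgroup G) :=
    IsPGroup.to_sup_of_normal_right' hz h.T2 (zpowers_le.2 hn)
  have hQX : zpowers n ⊔ T ≤ X := sup_le (zpowers_le.2 (h.T_le hn)) (le_normalizer.trans h.T_le)
  have hSX : (S : Subgroup G) ≤ X := le_inf h.SB h.SV
  obtain ⟨Q, hQs, hle⟩ := exists_syl hQ hQX
  obtain ⟨x, hx, e⟩ := syl_conj hQs (sylS hSX)
  obtain ⟨σ, hσ⟩ := h.exists_perm hx.1 hx.2
  -- an element of `X` which fixes all blocks is mapped by `x` to one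
  have key : ∀ t ∈ zpowers n ⊔ T, (∀ i, cj t (N i) = N i) → x * t * x⁻¹ ∈ T := by
    intro t ht htN
    refine ⟨?_, (mem_iInf.2 fun b => ?_ : _)⟩
    · change x * t * x⁻¹ ∈ (S : Subgroup G)
      rw [← e]
      exact ⟨t, hle ht, rfl⟩
    · obtain ⟨c, rfl⟩ := σ.surjective b
      rw [mem_normalizer_iff_cj, ← (hσ c).2, cj_cj]
      have e2 : x * t * x⁻¹ * x = x * t := by group
      rw [e2, ← cj_cj, htN]
  have h1 : cj x T = T := by
    refine Subgroup.eq_of_le_of_card_ge ?_ (by rw [card_cj])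
    rintro _ ⟨t, ht, rfl⟩
    exact key t (mem_sup_right ht) fun i => cj_eq_of_mem_normalizer (mem_iInf.1 ht.2 i)
  have h2 := key n (mem_sup_left (mem_zpowers n)) hnN
  rw [← h1] at h2
  have h3 := mem_cj.1 h2
  have e3 : x⁻¹ * (x * n * x⁻¹) * x = n := by group
  rwa [e3] at h3

/-- `Ω₁Z(T) ≤ R` -/
theorem zcT_le_R : zc (TT (S : Subgroup G) N) ≤ ⨆ b, l b := by
  rw [← h.zcB]
  intro z hz
  obtain ⟨hzT, hz2, hzc⟩ := mem_zc.1 hz
  refine mem_zc.2 ⟨⟨hzT.1, mem_centralizer_iff.2 fun y hy => hzc y (h.BT (h.RB hy))⟩, hz2, fun y hy => hzc y (h.BT hy)⟩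

theorem mem_iSup_F [Finite ι] [DecidableEq ι] (s : Finset ι) : ∀ x ∈ (⨆ b ∈ s, l b : Subgroup G),
    (∀ t ∈ TT (S : Subgroup G) N, t * x * t⁻¹ = x) → x ∈ ⨆ b, FF (S : Subgroup G) N l b := by
  induction s using Finset.induction_on with
  | empty =>
    intro x hx _
    simp only [Finset.notMem_empty, iSup_false, iSup_bot, mem_bot] at hx
    rw [hx]
    exact one_mem _
  | insert j s hj ih =>
    intro x hx hfix
    rw [Finset.iSup_insert] at hx
    have hsV : (⨆ b ∈ s, l b : Subgroup G) ≤ V := iSup₂_le fun b _ => h.lV b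
    have hn : l j ≤ normalizer ((⨆ b ∈ s, l b : Subgroup G) : Set G) :=
      ((h.lV j).trans (h.com.trans (centralizer_le hsV))).trans (centralizer_le_normalizer _)
    have hx' : x ∈ ((l j ⊔ ⨆ b ∈ s, l b : Subgroup G) : Set G) := hx
    rw [coe_mul_of_left_le_normalizer_right _ _ hn] at hx'
    obtain ⟨y, hy, w, hw, rfl⟩ := Set.mem_mul.1 hx'
    have hTs : TT (S : Subgroup G) N ≤ normalizer ((⨆ b ∈ s, l b : Subgroup G) : Set G) := by
      intro t ht
      refine Cfsg.Agent.ZN.ChoiceBase.mem_normalizer_of_cj_le ?_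
      rw [cj, Subgroup.map_iSup]
      refine iSup_le fun b => ?_
      rw [Subgroup.map_iSup]
      refine iSup_le fun hb => ?_
      exact (cj_eq_of_mem_normalizer (h.T_norm_l b ht)).le.trans (le_iSup₂ (f := fun b (_ : b ∈ s) => l b) b hb)
    have hdis : l j ⊓ (⨆ b ∈ s, l b : Subgroup G) = ⊥ := by
      rw [eq_bot_iff, ← h.ind j]
      refine inf_le_inf (h.lN j) (iSup₂_le fun b hb => ?_)
      exact (h.lN b).trans (le_iSup (fun c : {c // c ≠ j} => N c) ⟨b, fun e => hj (e ▸ hb)⟩)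
    have key : ∀ t ∈ TT (S : Subgroup G) N, t * y * t⁻¹ = y ∧ t * w * t⁻¹ = w := by
      intro t ht
      have h1 : t * y * t⁻¹ ∈ l j := (mem_normalizer_iff.1 (h.T_norm_l j ht) y).1 hy
      have h2 : t * w * t⁻¹ ∈ (⨆ b ∈ s, l b : Subgroup G) := (mem_normalizer_iff.1 (hTs ht) w).1 hw
      have h3 : (t * y * t⁻¹) * (t * w * t⁻¹) = y * w := by
        rw [← hfix t ht]; group
      have h4 : y⁻¹ * (t * y * t⁻¹) = w * (t * w * t⁻¹)⁻¹ := by
        calc y⁻¹ * (t * y * t⁻¹) = y⁻¹ * ((t * y * t⁻¹) * (t * w * t⁻¹)) * (t * w * t⁻¹)⁻¹ := by group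
          _ = y⁻¹ * (y * w) * (t * w * t⁻¹)⁻¹ := by rw [h3]
          _ = w * (t * w * t⁻¹)⁻¹ := by group
      have h5 : y⁻¹ * (t * y * t⁻¹) ∈ l j ⊓ (⨆ b ∈ s, l b : Subgroup G) :=
        mem_inf.2 ⟨mul_mem (inv_mem hy) h1, by rw [h4]; exact mul_mem hw (inv_mem h2)⟩
      rw [hdis, mem_bot] at h5
      have h6 : t * y * t⁻¹ = y := (inv_mul_eq_one.1 h5).symm
      refine ⟨h6, ?_⟩
      rw [h6] at h3
      exact mul_left_cancel h3
    refine mul_mem ?_ (ih w hw fun t ht => (key t ht).2)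
    refine (le_iSup (fun b => FF (S : Subgroup G) N l b) j : _) ⟨hy, mem_centralizer_iff.2 fun t ht => ?_⟩
    exact mul_inv_eq_iff_eq_mul.1 (key t ht).1

/-- **`sup`** -/
theorem zcT [Finite ι] : zc (TT (S : Subgroup G) N) ≤ ⨆ b, FF (S : Subgroup G) N l b := by
  classical
  have := Fintype.ofFinite ι
  intro x hx
  refine h.mem_iSup_F Finset.univ x ?_ fun t ht => ?_
  · have h1 := h.zcT_le_R hx
    simpa using h1
  · rw [(mem_zc.1 hx).2.2 t ht, mul_inv_cancel_right]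

/-- the blocks are centralised by `E c`, `c ≠ b` -/
theorem comN (i j : ι) : N i ≤ centralizer (N j : Set G) :=
  (h.NV i).trans (h.com.trans (centralizer_le (h.NV j)))

/-- **The plug to helper848's `TypT`.** -/
theorem typT [Finite ι] [Nonempty ι] (three : ∀ i j : ι, ∃ k, k ≠ i ∧ k ≠ j) {E : ι → Subgroup G}
    (EN : ∀ b, E b ≤ normalizer (N b : Set G)) (EC : ∀ b c, b ≠ c → E b ≤ centralizer (N c : Set G))
    (irr : ∀ b, ∀ A : Subgroup G, A ≤ N b → A ≠ ⊥ → N b ≤ XS A (E b))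
    (ord : ∀ b, ∃ ρ ∈ E b, ∀ k : ℕ, ∃ v ∈ N b, ρ ^ 2 ^ k * v ≠ v * ρ ^ 2 ^ k)
    (parT : ∀ j P, IsMinPar (TT (S : Subgroup G) N) P → P ≤ YY (FF (S : Subgroup G) N l) j →
      P ≤ centralizer (FF (S : Subgroup G) N l j : Set G) ∨ ∀ i, P ≤ normalizer (N i : Set G))
    (non : ∀ U : Subgroup G, IsPGroup 2 U →
      (∀ j, YY (FF (S : Subgroup G) N l) j ≤ normalizer (U : Set G)) → U = ⊥) :
    TypT (TT (S : Subgroup G) N) (FF (S : Subgroup G) N l) N := by
  have hTF : ∀ i, TT (S : Subgroup G) N ≤ centralizer (FF (S : Subgroup G) N l i : Set G) := fun i =>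
    comm_symm inf_le_right
  exact TypT.of h.T2 three h.ne h.F_le h.zcT h.F_le_N
    (fun i => TBits.VX_of h.F_le_N EC i (irr i _ (h.F_le_N i) (h.ne i)))
    (fun i => TBits.cV_of h.zcT h.F_le_N h.comN h.ind i) (fun i j => TBits.dis_of h.ind i j)
    (fun i j _ => TBits.oT_of h.T2 hTF h.F_le_N EN EC ord h.NT h.ker i j) h.NT h.ker parT non

end Tf

end Cfsg.Agent.Omega.NOThreeL.RWide.TAct

end

section


/-!
# NO-3L, box R: at least three types over `T` are impossible (#25339 = #23252 with LEMMA MOV, over `T`)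

`D = C_G(Ω₁Z(T))`, `O = O₂(D)`, `N_j = ⟨F_j^(Y_j)⟩`, `X_ij = ⟨F_j^(C_(Y_j)(V_i))⟩`, `L_j = Y_j ∩ ⋂ N(V_i)`,
`E_ij = ⟨Ω₁Z(T)^⟨D, L_i, L_j⟩⟩`.

* `TypT.YY_le` : `Y_j = ⟨D, L_j⟩`;
* `TypT.eab_EE`, `TypT.EE_le_O` : `E_ij` is elementary abelian, `E_ij ≤ O`;
* `TypT.noOn` : (NO);
* `TypT.big` : the frame `EXN.BigW`;
* **`TypT.false_of`**.
-/

set_option autoImplicit false
set_option linter.unusedSectionVars false

namespace Cfsg.Agent.Omega.NOThreeL.RWide

open Subgroup Cfsg Cfsg.Agent.ZN Cfsg.Agent.Omega.MinPar Cfsg.Agent.Omega.Frame Cfsg.Agent.Omega.FrameNOFF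
open Cfsg.Agent.ZN.ChoiceBase (cj cj_mono cj_inf cj_centralizer cj_eq_of_mem_normalizer mem_cj mem_normalizer_iff_cj
  cj_cj_inv cj_inv_cj)
open Cfsg.Agent.Omega.NoFF.Basic (comm_symm comm_mono)
open Cfsg.Agent.Omega.NoFF.ThmJFam (Ex)
open Cfsg.Agent.Omega.NO3S.EThree Cfsg.Agent.Omega.NO3S.EThree.ExactA
open Cfsg.Agent.Omega.EK3.Rank (NoOn)
open Cfsg.Agent.Omega.ML.Final (MLK)
open Cfsg.Agent.MinSimple.MinParabolic (IsMinPar)
open Cfsg.Agent.Omega.EDel.ThmU (XF XF_le sylow_of_two)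
open Cfsg.Agent.Omega.EXN
open Cfsg.Agent.Omega.KL.StarM (NoInpM)
open Cfsg.Agent.Omega.KL.FlagNO
open Cfsg.Agent.Omega.NOThreeL.RWide.TypB (NN XX relIndex_le_of_sup)

universe u v

namespace TypT

variable {G : Type u} [Group G] {ι : Type v} {T : Subgroup G} {F V : ι → Subgroup G}

/-- `L_j = Y_j ∩ ⋂ N(V_i)` -/
def LT (F V : ι → Subgroup G) (j : ι) : Subgroup G := YY F j ⊓ ⨅ i, normalizer (V i : Set G)

/-- `⟨D, L_i, L_j⟩` -/
def WT (T : Subgroup G) (F V : ι → Subgroup G) (i j : ι) : Subgroup G := CZ T ⊔ (LT F V i ⊔ LT F V j)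

/-- `E_ij` -/
def EE (T : Subgroup G) (F V : ι → Subgroup G) (i j : ι) : Subgroup G := XS (zc T) (WT T F V i j)

theorem LT_le (F V : ι → Subgroup G) (j : ι) : LT F V j ≤ YY F j := inf_le_left

theorem LT_norm (F V : ι → Subgroup G) (j i : ι) : LT F V j ≤ normalizer (V i : Set G) :=
  inf_le_right.trans (iInf_le _ i)

theorem V_eq_XS (Z H : Subgroup G) : NoFF.Basic.V Z H = XS Z H :=
  le_antisymm (V_le_elem fun _ hg _ hz => conj_mem_XS hg hz) (XS_le fun _ hg _ hz => conj_mem_V hg hz)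

variable (h : TypT T F V)
include h

theorem T_le_CZ : T ≤ CZ T := by
  intro t ht
  rw [mem_centralizer_iff]
  intro x hx
  exact ((MinSimple.VModule.mem_zc.1 hx).2.1 t ht).symm

theorem CZ_le (j : ι) : CZ T ≤ YY F j := le_YY fun l _ => centralizer_le (h.le l)

theorem T_le (j : ι) : T ≤ YY F j := h.T_le_CZ.trans (h.CZ_le j)

theorem TC (i : ι) : T ≤ centralizer (F i : Set G) := h.T_le_CZ.trans (centralizer_le (h.le i))

/-- centralising all `F i` -/
theorem le_CZ_of {K : Subgroup G} (hK : ∀ l, K ≤ centralizer (F l : Set G)) : K ≤ CZ T :=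
  comm_symm (h.sup.trans (iSup_le fun l => comm_symm (hK l)))

theorem TV (i : ι) : T ≤ normalizer (V i : Set G) := fun _ ht => (h.nrm i _ (le_normalizer ht) (h.T_le i ht)).2 i

/-- `X_ij = C_G(F_l : l ≠ i, j)` -/
theorem CZ_le_XF (i j : ι) : CZ T ≤ XF F i j := by
  intro x hx
  rw [XF, mem_centralizer_iff]
  rintro y ⟨n, -, -, hy⟩
  exact mem_centralizer_iff.1 hx y (h.le n hy)

omit h in
theorem YY_le_XF (i j : ι) : YY F i ≤ XF F i j :=
  centralizer_le fun _ ⟨n, h1, _, h3⟩ => ⟨n, h1, h3⟩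

theorem WT_le_XF (i j : ι) : WT T F V i j ≤ XF F i j := by
  refine sup_le (h.CZ_le_XF i j) (sup_le ((LT_le F V i).trans (YY_le_XF i j)) ((LT_le F V j).trans ?_))
  rw [EDel.ThmU.XF_comm]
  exact YY_le_XF j i

theorem locp (l : ι) : IsPGroup 2 (F l) := h.two.to_le ((h.le l).trans (ZN.zc_le _))

variable [Finite G]

/-- `Y_j = ⟨D, L_j⟩` -/
theorem YY_le (j : ι) : YY F j ≤ CZ T ⊔ LT F V j := by
  refine MinSimple.MinParabolic.le_of_forall (h.T_le j) ?_ fun P hP hPY => ?_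
  · refine le_trans ?_ le_sup_right
    exact le_inf inf_le_left (le_iInf fun i n hn => (h.nrm j n hn.2 hn.1).2 i)
  · rcases h.par j P hP hPY with h1 | h1
    · refine (h.le_CZ_of fun l => ?_).trans le_sup_left
      by_cases hl : l = j
      · rw [hl]; exact h1
      · exact hPY.trans (YY_le_cent hl)
    · exact (le_inf hPY (le_iInf h1)).trans le_sup_right

/-- `X_ij` has characteristic 2 -/
theorem char2_XF (hc : IsCharacteristicTwoType G) (i j : ι) :
    XF F i j ⊓ centralizer (o2 (XF F i j) : Set G) ≤ o2 (XF F i j) := by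
  have e : XF F i j = centralizer ((closure {x | ∃ n, n ≠ i ∧ n ≠ j ∧ x ∈ F n} : Subgroup G) : Set G) :=
    (centralizer_closure _).symm
  have hle : closure {x | ∃ n, n ≠ i ∧ n ≠ j ∧ x ∈ F n} ≤ T := by
    rw [closure_le]
    rintro _ ⟨n, -, -, hx⟩
    exact ZN.zc_le _ (h.le n hx)
  rw [e]
  refine Cfsg.Agent.Omega.NOne.LemmaT.char2_centralizer hc (h.two.to_le hle) ?_
  obtain ⟨l, hl1, hl2⟩ := h.three i j
  intro e1
  apply h.ne l
  rw [eq_bot_iff, ← e1]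
  exact fun x hx => subset_closure ⟨l, hl1, hl2, hx⟩

theorem zc_le_XF (i j : ι) : zc T ≤ XF F i j := by
  have h1 : zc T ≤ CZ T := (ZN.zc_le _).trans h.T_le_CZ
  exact h1.trans (h.CZ_le_XF i j)

/-- `⟨Ω₁Z(T)^(X_ij)⟩ ≤ Ω₁Z(O₂(X_ij))` -/
theorem XS_le_zc (hc : IsCharacteristicTwoType G) {i j : ι} (hij : i ≠ j) :
    XS (zc T) (XF F i j) ≤ zc (o2 (XF F i j)) := by
  have h1 : zc T ≤ centralizer (o2 (XF F i j) : Set G) := comm_symm ((h.oT i j hij).trans h.T_le_CZ)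
  have h2 : zc T ≤ zc (o2 (XF F i j)) := by
    intro x hx
    have h3 : x ∈ o2 (XF F i j) := h.char2_XF hc i j ⟨h.zc_le_XF i j hx, h1 hx⟩
    exact MinSimple.VModule.mem_zc.2 ⟨h3, fun y hy => mem_centralizer_iff.1 (h1 hx) y hy,
      MinSimple.VModule.zc_sq _ x hx⟩
  exact XS_le_of h2 ((MinSimple.VModule.le_normalizer_o2 _).trans (MinSimple.VModule.normalizer_le_normalizer_zc _))

theorem eab_X (hc : IsCharacteristicTwoType G) {i j : ι} (hij : i ≠ j) :
    IsElementaryAbelian 2 (XS (zc T) (XF F i j)) := by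
  have h1 : IsElementaryAbelian 2 (zc (o2 (XF F i j))) := by
    rw [eab_iff]
    refine ⟨fun x hx => ?_, fun x hx => MinSimple.VModule.zc_sq _ x hx⟩
    rw [mem_centralizer_iff]
    intro y hy
    exact (MinSimple.VModule.mem_zc.1 hx).2.1 y (ZN.zc_le _ hy)
  exact eab_mono h1 (h.XS_le_zc hc hij)

/-- `O₂(X_ij) ≤ O₂(D)` -/
theorem o2_XF_le {i j : ι} (hij : i ≠ j) : o2 (XF F i j) ≤ o2 (CZ T) := by
  refine MinSimple.VModule.le_o2 ((h.oT i j hij).trans h.T_le_CZ) (MinSimple.VModule.o2_isPGroup _) ?_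
  exact (h.CZ_le_XF i j).trans (MinSimple.VModule.le_normalizer_o2 _)

theorem X_le_O (hc : IsCharacteristicTwoType G) {i j : ι} (hij : i ≠ j) :
    XS (zc T) (XF F i j) ≤ o2 (CZ T) :=
  (h.XS_le_zc hc hij).trans ((ZN.zc_le _).trans (h.o2_XF_le hij))

theorem EE_le_X (i j : ι) : EE T F V i j ≤ XS (zc T) (XF F i j) := XS_mono (h.WT_le_XF i j)

theorem NN_le_EE (i j : ι) : NN F j ≤ EE T F V i j := by
  refine XS_le fun r hr a ha => conj_mem_XS ?_ (h.le j ha)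
  exact (h.YY_le j).trans (sup_le_sup_left le_sup_right _) hr

theorem NN_le_X {i j : ι} : NN F j ≤ XS (zc T) (XF F i j) :=
  (h.NN_le_EE i j).trans (h.EE_le_X i j)

omit [Finite G] in
theorem exists_ne (j : ι) : ∃ i, i ≠ j := by
  obtain ⟨l, hl, -⟩ := h.three j j
  exact ⟨l, hl⟩

theorem NN_le_O (hc : IsCharacteristicTwoType G) (j : ι) : NN F j ≤ o2 (CZ T) := by
  obtain ⟨i, hi⟩ := h.exists_ne j
  exact h.NN_le_X.trans (h.X_le_O hc hi)

theorem o2_CZ_le (j : ι) : o2 (CZ T) ≤ T := by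
  refine MinSimple.VModule.o2_le_of_sylow h.two fun h1 => h.syl j ?_
  rw [← relIndex_mul_relIndex T (CZ T) (YY F j) h.T_le_CZ (h.CZ_le j)]
  exact h1.mul_right _

/-! ### (NO) -/

omit [Finite G] in
/-- `K ≤ Y_j` normalises `⟨F_j^K⟩ Ω₁Z(T)` -/
theorem norm_sup {j : ι} {K : Subgroup G} (hK : K ≤ YY F j) :
    K ≤ normalizer ((XS (F j) K ⊔ zc T : Subgroup G) : Set G) := by
  have key : ∀ k ∈ K, cj k (XS (F j) K ⊔ zc T) ≤ XS (F j) K ⊔ zc T := by
    intro k hk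
    have e : cj k (XS (F j) K ⊔ zc T) = cj k (XS (F j) K) ⊔ cj k (zc T) := Subgroup.map_sup _ _ _
    rw [e]
    refine sup_le ((cj_eq_of_mem_normalizer (le_normalizer_XS _ _ hk)).le.trans le_sup_left) ?_
    rw [cj, map_le_iff_le_comap]
    refine h.sup.trans (iSup_le fun l z hz => ?_)
    rw [mem_comap]
    change k * z * k⁻¹ ∈ _
    by_cases hl : l = j
    · subst hl
      exact mem_sup_left (conj_mem_XS hk hz)
    · have h1 : z * k = k * z := mem_centralizer_iff.1 (YY_le_cent hl (hK hk)) z hz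
      rw [← h1, mul_inv_cancel_right]
      exact mem_sup_right (h.le l hz)
  intro k hk
  rw [mem_normalizer_iff_cj]
  refine le_antisymm (key k hk) ?_
  have h1 := cj_mono k (key k⁻¹ (inv_mem hk))
  rwa [cj_cj_inv] at h1

omit [Finite G] in
/-- `⟨Ω₁Z(T)^(K T)⟩ ≤ ⟨F_j^K⟩ Ω₁Z(T)` -/
theorem X_le_sup {j : ι} {K : Subgroup G} (hK : K ≤ YY F j) (hT : T ≤ normalizer (K : Set G)) :
    XS (zc T) (K ⊔ T) ≤ XS (F j) K ⊔ zc T := by
  refine XS_le_of le_sup_right (sup_le (h.norm_sup hK) ?_)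
  intro s hs
  have h1 : s ∈ normalizer (XS (F j) K : Set G) :=
    mem_normalizer_XS (centralizer_le_normalizer _ (h.TC j hs)) (hT hs)
  have h2 : s ∈ normalizer (zc T : Set G) := centralizer_le_normalizer _ (h.T_le_CZ hs)
  rw [mem_normalizer_iff_cj]
  have e : cj s (XS (F j) K ⊔ zc T) = cj s (XS (F j) K) ⊔ cj s (zc T) := Subgroup.map_sup _ _ _
  rw [e, cj_eq_of_mem_normalizer h1, cj_eq_of_mem_normalizer h2]

omit [Finite G] in
theorem XS_le_X {j : ι} {K R : Subgroup G} (hK : K ≤ R) : XS (F j) K ≤ XS (zc T) R :=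
  XS_le fun _ hr _ ha => conj_mem_XS (hK hr) (h.le j ha)

/-- **(NO)** on `⟨F_j^K⟩`, with `C_O(⟨F_j^K⟩) ≤ O₂(K T)` -/
theorem noOn' (hc : IsCharacteristicTwoType G) (ml : MLK.{u, u}) (kg : ∀ j, IsKGroup (YY F j))
    {j : ι} {K : Subgroup G} (hK : K ≤ YY F j) (hTK : T ≤ normalizer (K : Set G)) {A : Subgroup G}
    (hA : IsElementaryAbelian 2 A) (hAO : A ≤ o2 (CZ T)) :
    (centralizer (XS (F j) K : Set G)).relIndex A ≤ (centralizer (A : Set G)).relIndex (XS (F j) K) ∧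
      A ⊓ centralizer (XS (F j) K : Set G) ≤ o2 (K ⊔ T) := by
  have hKT : K ⊔ T ≤ YY F j := sup_le hK (h.T_le j)
  have hsyl : ¬ 2 ∣ T.relIndex (K ⊔ T) := fun h1 => h.syl j (by
    rw [← relIndex_mul_relIndex T (K ⊔ T) (YY F j) le_sup_right hKT]
    exact h1.mul_right _)
  obtain ⟨i, hi⟩ := h.exists_ne j
  have hYX : YY F j ≤ XF F i j := by
    rw [EDel.ThmU.XF_comm]; exact YY_le_XF j i
  have hU := eab_iff.1 (h.eab_X hc hi)
  have hXX : XS (zc T) (K ⊔ T) ≤ XS (zc T) (XF F i j) := XS_mono (hKT.trans hYX)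
  have hex : Ex (NoFF.Basic.V (zc T) (K ⊔ T)) := by
    rw [V_eq_XS]
    exact fun x hx => hU.2 x (hXX hx)
  have hAT : A ≤ T := hAO.trans (h.o2_CZ_le j)
  have h1 := flag_no_of ml h.two (le_sup_right : T ≤ K ⊔ T) hsyl h.T_le_CZ (kgroup_le (kg j) hKT) hex
    (X := CZ T) inf_le_right hAO (hAT.trans le_sup_right) (hAO.trans (MinSimple.VModule.o2_le _)) hA.2
  rw [V_eq_XS] at h1
  have hXU : XS (F j) K ≤ XS (zc T) (K ⊔ T) := h.XS_le_X le_sup_left
  have hUU : XS (zc T) (K ⊔ T) ≤ centralizer (XS (zc T) (K ⊔ T) : Set G) :=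
    (hXX.trans hU.1).trans (centralizer_le hXX)
  have hle := h.X_le_sup hK hTK
  constructor
  · refine (Sigma.relIndex_le_left (centralizer_le hXU)).trans (h1.1.trans (relIndex_le_of_sup hUU hXU ?_))
    refine hle.trans (sup_le_sup_left (le_inf (le_XS _ _) ?_) _)
    exact comm_symm (hAO.trans (MinSimple.VModule.o2_le _))
  · refine le_trans (le_inf inf_le_left ?_) h1.2
    refine comm_symm (hle.trans (sup_le (comm_symm inf_le_right) ?_))
    exact comm_symm (inf_le_left.trans (hAO.trans (MinSimple.VModule.o2_le _)))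

theorem noOn (hc : IsCharacteristicTwoType G) (ml : MLK.{u, u}) (kg : ∀ j, IsKGroup (YY F j))
    {j : ι} {K : Subgroup G} (hK : K ≤ YY F j) (hTK : T ≤ normalizer (K : Set G)) :
    NoOn (o2 (CZ T)) (XS (F j) K) := fun _ hA hAO => (h.noOn' hc ml kg hK hTK hA hAO).1

/-! ### The frame -/

omit [Finite G] in
/-- `L_i` normalises `C_{Y_j}(V_i)` -/
theorem LT_norm_H {i j : ι} (hij : i ≠ j) :
    LT F V i ≤ normalizer ((YY F j ⊓ centralizer (V i : Set G) : Subgroup G) : Set G) := by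
  have key : ∀ g ∈ LT F V i, ∀ r ∈ YY F j ⊓ centralizer (V i : Set G),
      g * r * g⁻¹ ∈ YY F j ⊓ centralizer (V i : Set G) := by
    intro g hg r hr
    have h1 : g * r * g⁻¹ ∈ centralizer (V i : Set G) := by
      have h2 := LT_norm F V i i hg
      rw [mem_normalizer_iff_cj] at h2
      have h3 : g * r * g⁻¹ ∈ cj g (centralizer (V i : Set G)) := by
        rw [mem_cj]
        have e : g⁻¹ * (g * r * g⁻¹) * g = r := by group
        rw [e]
        exact hr.2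
      rwa [cj_centralizer, h2] at h3
    refine ⟨?_, h1⟩
    change g * r * g⁻¹ ∈ YY F j
    rw [YY, mem_centralizer_iff]
    rintro x ⟨l, hl, hx⟩
    by_cases hli : l = i
    · subst hli
      exact mem_centralizer_iff.1 h1 x (h.FV l hx)
    · have h2 : x * g = g * x := mem_centralizer_iff.1 (YY_le_cent hli (LT_le _ _ _ hg)) x hx
      have h3 : x * r = r * x := mem_centralizer_iff.1 (YY_le_cent hl hr.1) x hx
      have h4 : x * g⁻¹ = g⁻¹ * x := by
        rw [eq_inv_mul_iff_mul_eq, ← mul_assoc, ← h2, mul_inv_cancel_right]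
      calc x * (g * r * g⁻¹) = (x * g) * r * g⁻¹ := by group
        _ = g * (x * r) * g⁻¹ := by rw [h2]; group
        _ = g * r * (x * g⁻¹) := by rw [h3]; group
        _ = g * r * g⁻¹ * x := by rw [h4]; group
  intro g hg
  rw [mem_normalizer_iff]
  intro r
  refine ⟨key g hg r, fun h' => ?_⟩
  have h1 := key g⁻¹ (inv_mem hg) _ h'
  have e : g⁻¹ * (g * r * g⁻¹) * g⁻¹⁻¹ = r := by group
  rwa [e] at h1

omit [Finite G] in
/-- `L_i` normalises `X_ij` -/
theorem LT_norm_X {i j : ι} (hij : i ≠ j) : LT F V i ≤ normalizer ((XX F V i j : Subgroup G) : Set G) := fun _ hg =>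
  mem_normalizer_XS (centralizer_le_normalizer _ (YY_le_cent hij.symm (LT_le _ _ _ hg))) (h.LT_norm_H hij hg)

omit [Finite G] in
theorem T_norm_H (i j : ι) :
    T ≤ normalizer ((YY F j ⊓ centralizer (V i : Set G) : Subgroup G) : Set G) := by
  intro s hs
  rw [mem_normalizer_iff_cj, cj_inf, cj_centralizer, cj_eq_of_mem_normalizer (le_normalizer (h.T_le j hs)),
    cj_eq_of_mem_normalizer (h.TV i hs)]

/-- `C_O(N_i) = O₂(C_{Y_i}(N_i))` is normalised by `Y_i` -/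
theorem YY_norm_Q (i : ι) : YY F i ≤
    normalizer ((o2 (CZ T) ⊓ centralizer (NN F i : Set G) : Subgroup G) : Set G) := by
  set K := YY F i ⊓ centralizer (NN F i : Set G) with hK
  have hKC : K ≤ CZ T := by
    refine h.le_CZ_of fun l => ?_
    by_cases hl : l = i
    · subst hl
      exact inf_le_right.trans (centralizer_le (le_XS _ _))
    · exact inf_le_left.trans (YY_le_cent hl)
  have hYN : YY F i ≤ normalizer (NN F i : Set G) := le_normalizer_XS _ _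
  have hYK : YY F i ≤ normalizer (K : Set G) := by
    intro g hg
    rw [mem_normalizer_iff_cj, hK, cj_inf, cj_centralizer, cj_eq_of_mem_normalizer (le_normalizer hg),
      cj_eq_of_mem_normalizer (hYN hg)]
  have hOC : o2 (CZ T) ≤ CZ T := MinSimple.VModule.o2_le _
  have e : o2 (CZ T) ⊓ centralizer (NN F i : Set G) = o2 K := by
    apply le_antisymm
    · refine MinSimple.VModule.le_o2 (inf_le_inf_right _ (hOC.trans (h.CZ_le i)))
        ((MinSimple.VModule.o2_isPGroup _).to_le inf_le_left) ?_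
      intro g hg
      rw [mem_normalizer_iff_cj, cj_inf, cj_centralizer,
        cj_eq_of_mem_normalizer (MinSimple.VModule.le_normalizer_o2 _ (hKC hg)), cj_eq_of_mem_normalizer (hYN hg.1)]
    · refine le_inf (MinSimple.VModule.le_o2 ((MinSimple.VModule.o2_le _).trans hKC) (MinSimple.VModule.o2_isPGroup _) ?_)
        ((MinSimple.VModule.o2_le _).trans inf_le_right)
      intro g hg
      exact Cfsg.Agent.Omega.normalizer_le_normalizer_o2' _ (hYK (h.CZ_le i hg))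
  rw [e]
  intro g hg
  exact Cfsg.Agent.Omega.normalizer_le_normalizer_o2' _ (hYK hg)

omit [Finite G] in
/-- `L_j` generate the `Y_j` -/
theorem XS_minN {j : ι} {U : Subgroup G} (hY : YY F j ≤ CZ T ⊔ LT F V j) (hZ : F j ≤ U)
    (hD : CZ T ≤ normalizer (U : Set G)) (hL : LT F V j ≤ normalizer (U : Set G)) : NN F j ≤ U :=
  XS_le_of hZ (hY.trans (sup_le hD hL))

variable (hc : IsCharacteristicTwoType G) (ml : MLK.{u, u}) (kg : ∀ j, IsKGroup (YY F j))
include hc ml kg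

/-- **The frame.** -/
theorem sit : Sit (CZ T) (o2 (CZ T)) F (LT F V) (NN F) (XX F V) where
  OD := MinSimple.VModule.o2_le _
  nO := MinSimple.VModule.le_normalizer_o2 _
  Oz i := (MinSimple.VModule.o2_le _).trans (centralizer_le (h.le i))
  eN j := by
    obtain ⟨i, hi⟩ := h.exists_ne j
    exact eab_mono (h.eab_X hc hi) h.NN_le_X
  NO i := h.NN_le_O hc i
  nN i := (h.CZ_le i).trans (le_normalizer_XS _ _)
  minN i _ h1 h2 h3 := h.XS_minN (h.YY_le i) h1 h2 h3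
  nQ i := (LT_le _ _ _).trans (h.YY_norm_Q i)
  no i := h.noOn hc ml kg le_rfl ((h.T_le i).trans le_normalizer)
  XN _ _ _ := XS_mono inf_le_left
  nX _ _ hij := h.LT_norm_X hij
  noX i j _ := h.noOn hc ml kg inf_le_left (h.T_norm_H i j)

/-- KL*(q) with all K2's -/
theorem kl (hE : NoInpM.{u, u}) {i j : ι} (hij : i ≠ j) {A : Subgroup G} (hA : IsElementaryAbelian 2 A)
    (hAQ : A ≤ o2 (CZ T) ⊓ centralizer (NN F i : Set G)) (hm : MinOff (EE T F V i j) A)
    (hX : A ≤ centralizer (XX F V i j : Set G)) : A ≤ centralizer (NN F j : Set G) := by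
  by_contra hN
  have hAO : A ≤ o2 (CZ T) := hAQ.trans inf_le_left
  have hAV : A ≤ centralizer (V i : Set G) := (hAQ.trans inf_le_right).trans (centralizer_le (h.VX i))
  have hNE : NN F j ≤ EE T F V i j := h.NN_le_EE i j
  have hNEi : NN F i ≤ EE T F V i j := by
    have h1 := h.NN_le_EE j i
    have e : EE T F V j i = EE T F V i j := by rw [EE, EE, WT, WT, sup_comm (LT F V i)]
    rwa [e] at h1
  have hWE : WT T F V i j ≤ normalizer (EE T F V i j : Set G) := le_normalizer_XS _ _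
  have hEe : IsElementaryAbelian 2 (EE T F V i j) := eab_mono (h.eab_X hc hij) (h.EE_le_X i j)
  have hsit := h.sit hc ml kg
  obtain ⟨h1, h2, h3, h4, h5⟩ := exact_of hA hAO hm hNE (hsit.no j) hN
  have hAT : A ≤ T := hAO.trans (h.o2_CZ_le j)
  refine GM.false_of (C := YY F j) (T := T) (A := A) (M := EE T F V i j) (Z := F j) (Y := V i) (Y' := V j) hE
    { CM := ((h.YY_le j).trans (sup_le_sup_left le_sup_right _)).trans hWE
      sqM := hEe.2
      TC := h.T_le j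
      two := h.two
      syl := h.syl j
      YM := (h.VX i).trans hNEi
      YM' := (h.VX j).trans hNE
      TZ := h.TC j
      NZ := fun n hn => (h.nrm j n hn.2 hn.1).1
      NY := fun n hn => (h.nrm j n hn.2 hn.1).2 i
      NY' := fun n hn => (h.nrm j n hn.2 hn.1).2 j
      ZY' := h.FV j
      dis := h.dis i j hij
      cY := ?_
      par := ?_
      AT := hAT
      sqA := hA.2
      AZ := ?_
      AY := ?_
      mv := hm.mov
      ker := h1
      le := hm.le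
      no := ?_
      K := kg j }
  · -- the `T`-fixed points of `V_i`
    refine (YY_le_cent hij).trans (centralizer_le ?_)
    intro x hx
    refine h.cV i ⟨hx.1, MinSimple.VModule.mem_zc.2 ⟨?_, ?_, ?_⟩⟩
    · exact ((h.VX i).trans ((h.NN_le_O hc i).trans (h.o2_CZ_le j))) hx.1
    · intro s hs
      exact mem_centralizer_iff.1 hx.2 s hs
    · exact hEe.2 x (hNEi (h.VX i hx.1))
  · intro P hP hPY
    rcases h.par j P hP hPY with h1 | h1
    · exact Or.inl h1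
    · exact Or.inr ⟨h1 i, h1 j⟩
  · -- `C_{Y_j}(F_j) = D`
    have e : YY F j ⊓ centralizer (F j : Set G) = CZ T := by
      apply le_antisymm
      · refine h.le_CZ_of fun l => ?_
        by_cases hl : l = j
        · subst hl
          exact inf_le_right
        · exact inf_le_left.trans (YY_le_cent hl)
      · exact le_inf (h.CZ_le j) (centralizer_le (h.le j))
    rw [e]
    exact hAO
  · -- `O₂(C_{Y_j}(V_i) T) ∩ C(V_i) ≤ O₂(C_{Y_j}(V_i))`
    set K := YY F j ⊓ centralizer (V i : Set G) with hK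
    have hl : A ≤ o2 (K ⊔ T) :=
      (le_inf le_rfl hX).trans (h.noOn' hc ml kg (inf_le_left : K ≤ YY F j) (h.T_norm_H i j) hA hAO).2
    have hAK : A ≤ K := le_inf (hAT.trans (h.T_le j)) hAV
    refine (le_inf hl hAK).trans (MinSimple.VModule.le_o2 inf_le_right
      ((MinSimple.VModule.o2_isPGroup _).to_le inf_le_left) ?_)
    intro g hg
    rw [mem_normalizer_iff_cj, cj_inf,
      cj_eq_of_mem_normalizer (MinSimple.VModule.le_normalizer_o2 _ ((le_sup_left : K ≤ K ⊔ T) hg)),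
      cj_eq_of_mem_normalizer (le_normalizer hg)]
  · intro B hB
    have hBO := hAO.trans' hB
    have h6 := hsit.no j B (eab_mono hA hB) hBO
    have h7 : (centralizer (EE T F V i j : Set G)).relIndex B ≤ (centralizer (NN F j : Set G)).relIndex B := by
      rw [← inf_relIndex_left B (centralizer (NN F j : Set G))]
      exact Sigma.relIndex_le_left ((inf_le_inf_right _ hB).trans h1)
    exact h7.trans (h6.trans (Sigma.relIndex_le_right hNE))

/-- **`EXN.BigW`** -/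
theorem big (hE : NoInpM.{u, u}) : BigW (CZ T) (o2 (CZ T)) F (LT F V) (NN F) (XX F V) (EE T F V) where
  toSit := h.sit hc ml kg
  eE i j hij := eab_mono (h.eab_X hc hij) (h.EE_le_X i j)
  EO i j hij := (h.EE_le_X i j).trans (h.X_le_O hc hij)
  NE i j _ := h.NN_le_EE i j
  symm i j := by rw [EE, EE, WT, WT, sup_comm (LT F V i)]
  DE i j _ := (le_sup_left : _ ≤ WT T F V i j).trans (le_normalizer_XS _ _)
  LE i j _ := ((le_sup_left : _ ≤ LT F V i ⊔ LT F V j).trans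
    (le_sup_right : _ ≤ WT T F V i j)).trans (le_normalizer_XS _ _)
  minE i j _ U h1 h2 h3 h4 := XS_le_of (h.sup.trans (iSup_le h1)) (sup_le h2 (sup_le h3 h4))
  kl i j hij A hA hAQ hm hX := h.kl hc ml kg hE hij hA hAQ hm hX

/-- **At least three types over `T` are impossible.** -/
theorem false_of [Finite ι] (hE : NoInpM.{u, u}) : False := by
  have hne : Nonempty ι := by
    by_contra hcon
    rw [not_nonempty_iff] at hcon
    have : Fact (Nat.Prime 2) := ⟨Nat.prime_two⟩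
    obtain ⟨S⟩ : Nonempty (Sylow 2 G) := inferInstance
    have h1 : (S : Subgroup G) = ⊥ := h.non S S.isPGroup' fun j => isEmptyElim j
    have h2 := S.not_dvd_index
    rw [h1, index_bot] at h2
    exact h2 hc.1.two_dvd
  obtain ⟨j⟩ := hne
  obtain ⟨⟨x, hx⟩, hx1⟩ := (Subgroup.ne_bot_iff_exists_ne_one).1 (h.ne j)
  have hx1' : x ≠ 1 := fun h => hx1 (Subtype.ext h)
  have hxO : x ∈ o2 (CZ T) := h.NN_le_O hc j (le_XS _ _ hx)
  obtain ⟨U, hU1, hUO, hUD, hUL⟩ := (h.big hc ml kg hE).exn ⟨x, hxO, hx1', MinSimple.VModule.zc_sq _ x (h.le j hx)⟩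
  exact hU1 (h.non U ((MinSimple.VModule.o2_isPGroup _).to_le hUO) fun j =>
    (h.YY_le j).trans (sup_le hUD (hUL j)))

end TypT

end Cfsg.Agent.Omega.NOThreeL.RWide

end

end
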